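import Groth.Agent.AVTate.Rank
import Groth.Agent.AVDeg.PointCount
import Groth.Agent.AVDeg.WeilRoots

/-!
# Consequences of Tate's theorem for a single abelian variety
-/

set_option autoImplicit false
set_option backward.isDefEq.respectTransparency false
set_option backward.isDefEq.respectTransparency.types false
set_option linter.style.haveILetI false
set_option linter.unusedSectionVars false
set_option synthInstance.maxHeartbeats 400000
set_option maxHeartbeats 1000000

universe u

open CategoryTheory MonoidalCategory CartesianMonoidalCategory MonObj GrpObj AlgebraicGeometry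
open UniqueFactorizationMonoid
open scoped TensorProduct

noncomputable section

namespace Groth.Agent.AVTate

theorem exists_prime_ne_zero (k : Type u) [Field k] : ∃ l : ℕ, l.Prime ∧ (l : k) ≠ 0 := by
  obtain ⟨l, hl, hp⟩ := Nat.exists_infinite_primes (ringChar k + 1)
  refine ⟨l, hp, fun h => ?_⟩
  rcases (Nat.dvd_prime hp).1 ((ringChar.spec k l).1 h) with h1 | h1
  · exact CharP.ringChar_ne_one h1
  · omega

variable {k : Type u} [Field k]
variable {X : Over (Spec (CommRingCat.of k))} [GrpObj X] [IsCommMonObj X] [IsProper X.hom] [GeometricallyIntegral X.hom]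

variable (X) in
/-- A Frobenius endomorphism. -/
theorem exists_frob [Finite k] : ∃ (πA : X ⟶ X) (_ : IsMonHom πA) (_ : πA.left.base = 𝟙 _)
    (hle : ∀ U : X.left.Opens, U ≤ πA.left ⁻¹ᵁ U),
      ∀ (U : X.left.Opens) (s : Γ(X.left, U)), (πA.left.appLE U U (hle U)).hom s = s ^ Nat.card k := by
  haveI := Fintype.ofFinite k
  obtain ⟨p, hp⟩ := CharP.exists k
  obtain ⟨d, hpr, hcard⟩ := FiniteField.card k p
  haveI := Fact.mk hpr
  have hq : Nat.card k = p ^ (d : ℕ) := by rw [Nat.card_eq_fintype_card]; exact hcard
  exact ⟨_, AVDeg.isMonHom_frobOver hq, AVDeg.frobOver_base hq X, AVDeg.le_frobOver hq X,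
    AVDeg.frobOver_app hq X⟩

/-- A monic polynomial: the degree is the sum over its factors, with equality to the square sum iff squarefree. -/
theorem natDegree_eq_sum_count {K : Type*} [Field K] [DecidableEq K] {F : Polynomial K} (hF : F.Monic) :
    F.natDegree = ∑ P ∈ (normalizedFactors F).toFinset, (normalizedFactors F).count P * P.natDegree := by
  have h : (normalizedFactors F).prod = F := by
    rw [prod_normalizedFactors_eq hF.ne_zero, hF.normalize_eq_self]
  conv_lhs => rw [← h]
  rw [Polynomial.natDegree_multiset_prod_of_monic, Finset.sum_multiset_map_count]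
  · exact Finset.sum_congr rfl fun P _ => smul_eq_mul _ _
  · intro f hf
    rw [← normalize_normalized_factor f hf]
    exact Polynomial.monic_normalize (irreducible_of_normalized_factor f hf).ne_zero

theorem natDegree_le_sum_sq {K : Type*} [Field K] [DecidableEq K] {F : Polynomial K} (hF : F.Monic) :
    F.natDegree ≤ (∑ P ∈ (normalizedFactors F).toFinset, (normalizedFactors F).count P *
        (normalizedFactors F).count P * P.natDegree) ∧
      (F.natDegree = (∑ P ∈ (normalizedFactors F).toFinset, (normalizedFactors F).count P *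
        (normalizedFactors F).count P * P.natDegree) ↔ Squarefree F) := by
  have hle : ∀ P ∈ (normalizedFactors F).toFinset, (normalizedFactors F).count P * P.natDegree ≤
      (normalizedFactors F).count P * (normalizedFactors F).count P * P.natDegree := fun P hP =>
    Nat.mul_le_mul_right _ (Nat.le_mul_of_pos_left _ (Multiset.count_pos.2 (Multiset.mem_toFinset.1 hP)))
  rw [natDegree_eq_sum_count hF, Finset.sum_eq_sum_iff_of_le hle,
    squarefree_iff_nodup_normalizedFactors hF.ne_zero, Multiset.nodup_iff_count_le_one]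
  refine ⟨Finset.sum_le_sum hle, fun h P => ?_, fun h P hP => ?_⟩
  · by_cases hP : P ∈ normalizedFactors F
    · have h1 := h P (Multiset.mem_toFinset.2 hP)
      have h2 : 0 < P.natDegree :=
        (irreducible_of_normalized_factor P hP).natDegree_pos
      have h3 := Multiset.count_pos.2 hP
      have h4 := Nat.eq_of_mul_eq_mul_right h2 h1
      nlinarith
    · rw [Multiset.count_eq_zero_of_notMem hP]; omega
  · rw [show Multiset.count P (normalizedFactors F) = 1 from le_antisymm (h P) (Multiset.count_pos.2 (Multiset.mem_toFinset.1 hP))]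

/-- The additive embedding of `Hom` in the group of morphisms. -/
def toAdd (A B : Over (Spec (CommRingCat.of k))) [GrpObj A] [IsCommMonObj A] [GrpObj B] [IsCommMonObj B] :
    EndAV.Hom A B →+ Additive (A ⟶ B) where
  toFun f := Additive.ofMul f.toHom
  map_zero' := rfl
  map_add' _ _ := rfl

theorem toAdd_injective (A B : Over (Spec (CommRingCat.of k))) [GrpObj A] [IsCommMonObj A] [GrpObj B]
    [IsCommMonObj B] : Function.Injective (toAdd A B) := fun _ _ h => EndAV.Hom.ext (Additive.ofMul.injective h)

variable (X) in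
/-- A family of `rank End` endomorphisms. -/
theorem exists_end_family {r : ℕ} (hr : r ≤ Module.finrank ℤ (EndAV.End X)) :
    ∃ e : Fin r → (X ⟶ X), (∀ i, IsMonHom (e i)) ∧ LinearIndependent ℤ (fun i => Additive.ofMul (e i)) ∧
      (r = Module.finrank ℤ (EndAV.End X) → ∀ f : X ⟶ X, IsMonHom f →
        ∃ a : Fin r → ℤ, f = ∏ i, e i ^ a i) := by
  haveI : Nonempty X.left := ⟨η[X].left (IsLocalRing.closedPoint k)⟩
  obtain ⟨g, hg⟩ := AVDeg.exists_dim X
  obtain ⟨hfree, hfin, -⟩ := AVDeg.hom_lattice (A := X) (B := X) hg hg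
  haveI := hfree
  haveI := hfin
  let H := Module.finBasis ℤ (EndAV.Hom X X)
  refine ⟨fun i => (H (Fin.castLE hr i)).toHom, fun i => inferInstance, ?_, fun h f hf => ?_⟩
  · exact ((H.linearIndependent.comp _ (Fin.castLE_injective hr)).map' (toAdd X X).toIntLinearMap
      (LinearMap.ker_eq_bot.2 (toAdd_injective X X)) :)
  · refine ⟨fun i => H.repr (EndAV.Hom.of f) (Fin.castLE hr i), ?_⟩
    have e := congrArg (toAdd X X) (H.sum_repr (EndAV.Hom.of f))
    simp only [map_sum, map_zsmul] at e
    refine (congrArg Additive.toMul e).symm.trans ?_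
    rw [toMul_sum]
    refine (Fintype.prod_bijective (Fin.castLE hr) ?_ _ _ fun i => ?_).symm
    · exact (Fintype.bijective_iff_injective_and_card _).2 ⟨Fin.castLE_injective hr, by simpa using h⟩
    · rfl


/-- The factors of a power of a monic irreducible polynomial. -/
theorem sum_sq_pow {K : Type*} [Field K] [DecidableEq K] {m : Polynomial K} (hm : m.Monic) (hirr : Irreducible m) (d : ℕ) :
    (∑ Q ∈ (normalizedFactors (m ^ d)).toFinset, (normalizedFactors (m ^ d)).count Q *
      (normalizedFactors (m ^ d)).count Q * Q.natDegree) = d * d * m.natDegree := by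
  rw [normalizedFactors_pow, normalizedFactors_irreducible hirr, hm.normalize_eq_self, Multiset.nsmul_singleton]
  rcases Nat.eq_zero_or_pos d with rfl | hd
  · simp
  · rw [show (Multiset.replicate d m).toFinset = {m} from Finset.ext fun x => by
      simp [Multiset.mem_replicate, hd.ne'], Finset.sum_singleton, Multiset.count_replicate_self]

/-- If the square sum is the square of the degree, the polynomial is a power of a linear one. -/
theorem eq_pow_of_sum_sq_eq {K : Type*} [Field K] [DecidableEq K] {F : Polynomial K} (hF : F.Monic)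
    (h : (∑ P ∈ (normalizedFactors F).toFinset, (normalizedFactors F).count P *
      (normalizedFactors F).count P * P.natDegree) = F.natDegree ^ 2) :
    ∃ a : K, F = (Polynomial.X - Polynomial.C a) ^ F.natDegree := by
  set n := normalizedFactors F with hn
  have hprod : n.prod = F := by rw [hn, prod_normalizedFactors_eq hF.ne_zero, hF.normalize_eq_self]
  set S := F.natDegree with hSdef
  have hS : S = ∑ P ∈ n.toFinset, n.count P * P.natDegree := natDegree_eq_sum_count hF
  rcases Multiset.empty_or_exists_mem n with h0 | ⟨Q, hQ⟩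
  · rw [h0, Multiset.prod_zero] at hprod
    exact ⟨0, by rw [hSdef, ← hprod]; simp⟩
  have hpos : ∀ P ∈ n.toFinset, 0 < n.count P * P.natDegree := fun P hP =>
    Nat.mul_pos (Multiset.count_pos.2 (Multiset.mem_toFinset.1 hP))
      (irreducible_of_normalized_factor P (Multiset.mem_toFinset.1 hP)).natDegree_pos
  have hle : ∀ P ∈ n.toFinset, n.count P * n.count P * P.natDegree ≤ S * (n.count P * P.natDegree) := fun P hP => by
    rw [_root_.mul_assoc]
    refine Nat.mul_le_mul_right _ ?_
    rw [hS]
    refine le_trans ?_ (Finset.single_le_sum (fun i _ => Nat.zero_le _) hP)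
    exact Nat.le_mul_of_pos_right _ (irreducible_of_normalized_factor P (Multiset.mem_toFinset.1 hP)).natDegree_pos
  have heq : ∀ P ∈ n.toFinset, n.count P = S := by
    have h' := (Finset.sum_eq_sum_iff_of_le hle).1 (by rw [h, ← Finset.mul_sum, ← hS, pow_two])
    intro P hP
    have := h' P hP
    rw [_root_.mul_assoc] at this
    exact Nat.eq_of_mul_eq_mul_right (hpos P hP) this
  have hQ' := Multiset.mem_toFinset.2 hQ
  have hd : 0 < S := (heq Q hQ') ▸ Multiset.count_pos.2 hQ
  have hsingle : n.toFinset = {Q} := by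
    refine Finset.eq_singleton_iff_unique_mem.2 ⟨hQ', fun P hP => ?_⟩
    by_contra hne
    have h2 : n.count P * P.natDegree + n.count Q * Q.natDegree ≤ S := by
      rw [hS, ← Finset.sum_pair hne (f := fun R => n.count R * R.natDegree)]
      exact Finset.sum_le_sum_of_subset (by
        intro x hx
        rcases Finset.mem_insert.1 hx with rfl | hx
        · exact hP
        · rw [Finset.mem_singleton] at hx; exact hx ▸ hQ')
    have := hpos P hP
    have := Nat.le_mul_of_pos_right (n.count Q) (irreducible_of_normalized_factor Q hQ).natDegree_pos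
    rw [heq Q hQ'] at this h2
    omega
  have hQd : Q.natDegree = 1 := by
    rw [hsingle, Finset.sum_singleton, heq Q hQ'] at hS
    exact (Nat.mul_eq_left hd.ne').1 hS.symm
  have hQm : Q.Monic := by
    have := Polynomial.monic_normalize (irreducible_of_normalized_factor Q hQ).ne_zero
    rwa [normalize_normalized_factor Q hQ] at this
  refine ⟨-Q.coeff 0, ?_⟩
  rw [map_neg, sub_neg_eq_add, ← hQm.eq_X_add_C hQd]
  refine hprod.symm.trans ?_
  rw [Finset.prod_multiset_count, hsingle, Finset.prod_singleton, heq Q hQ']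

variable (Ω : Type u) [Field Ω] [Algebra k Ω] {l : ℕ} [Fact l.Prime]
  [Module.Free ℤ_[l] (AbDual.TateMod X l (SGA7.pt (K := k) Ω))] [Module.Finite ℤ_[l] (AbDual.TateMod X l (SGA7.pt (K := k) Ω))]

variable [Finite k] (πA : X ⟶ X) [IsMonHom πA] (hb : πA.left.base = 𝟙 _)
  (hle : ∀ U : X.left.Opens, U ≤ πA.left ⁻¹ᵁ U)
  (happ : ∀ (U : X.left.Opens) (s : Γ(X.left, U)), (πA.left.appLE U U (hle U)).hom s = s ^ Nat.card k)

include hb hle happ in
/-- `End` is commutative iff `End⁰ = ℚ[π]`. -/
theorem qadj_eq_top_iff : EndAV.QAdj (EndAV.End.of πA) = ⊤ ↔ ∀ a b : EndAV.End X, a * b = b * a := by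
  constructor
  · intro h a b
    refine AVDeg.toEnd0_injective ?_
    have hm : ∀ c : EndAV.End X, EndAV.toEnd0 c ∈ Subalgebra.center ℚ (EndAV.End0 X) := fun c => by
      rw [center_end0 πA hb hle happ, h]; trivial
    rw [map_mul, map_mul]
    exact Subalgebra.mem_center_iff.1 (hm b) _
  · intro h
    rw [← center_end0 πA hb hle happ, eq_top_iff]
    intro x _
    refine Subalgebra.mem_center_iff.2 fun y => ?_
    induction x using TensorProduct.induction_on with
    | zero => rw [mul_zero, zero_mul]
    | add a b ha hb' => rw [mul_add, add_mul, ha trivial, hb' trivial]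
    | tmul c a =>
      induction y using TensorProduct.induction_on with
      | zero => rw [mul_zero, zero_mul]
      | add y z hy hz => rw [mul_add, add_mul, hy, hz]
      | tmul d b => rw [Algebra.TensorProduct.tmul_mul_tmul, Algebra.TensorProduct.tmul_mul_tmul, mul_comm d c, h b a]

variable [IsAlgClosure k Ω] (hl : (l : k) ≠ 0) {P : Polynomial ℤ}
  (hP : (AbDual.tateMapₗ (l := l) (T := SGA7.pt (K := k) Ω) πA).charpoly = P.map (Int.castRingHom ℤ_[l]))
  {g : ℕ} (hg : topologicalKrullDim X.left = (g : WithBot ℕ∞))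

include hl hP hg in
theorem monic_natDegree : P.Monic ∧ P.natDegree = 2 * g := by
  haveI : IsAlgClosed Ω := IsAlgClosure.isAlgClosed k
  obtain ⟨h1, h2, -⟩ := AVDeg.charpoly_tate_data Ω hl hg πA hP
  exact ⟨h1, h2⟩

include hb hle happ hl hP in
/-- The factors of the characteristic polynomial divide the minimal polynomial, and conversely it kills `π`. -/
theorem minpoly_rel : minpoly ℚ (EndAV.toEnd0 (EndAV.End.of πA)) ∣ P.map (Int.castRingHom ℚ) ∧
    ∀ r ∈ normalizedFactors (P.map (Int.castRingHom ℚ)), r ∣ minpoly ℚ (EndAV.toEnd0 (EndAV.End.of πA)) := by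
  haveI : IsAlgClosed Ω := IsAlgClosure.isAlgClosed k
  have hk := congrArg EndAV.toEnd0 (AVDeg.aeval_eq_zero_of_charpoly Ω hl (EndAV.End.of πA) P hP)
  rw [map_zero] at hk
  refine ⟨minpoly.dvd ℚ _ ?_, fun r hr => ?_⟩
  · rw [← hk, Polynomial.aeval_def, Polynomial.eval₂_map, Polynomial.aeval_def]
    refine Eq.trans ?_ (Polynomial.hom_eval₂ _ _ EndAV.toEnd0.toRingHom _).symm
    exact congrArg (fun f => Polynomial.eval₂ f _ P) (RingHom.ext_int _ _)
  · classical
    set V := (AbDual.tateMapₗ (l := l) (T := SGA7.pt (K := k) Ω) πA).baseChange ℚ_[l]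
    set m := minpoly ℚ (EndAV.toEnd0 (EndAV.End.of πA))
    have hann : Polynomial.aeval V (m.map (algebraMap ℚ ℚ_[l])) = 0 := by
      have h := AVDeg.ratRep_toEnd0 (l := l) Ω (EndAV.End.of πA)
      rw [show V = AVDeg.ratRep (l := l) Ω (EndAV.toEnd0 (EndAV.End.of πA)) from h.symm,
        Polynomial.aeval_map_algebraMap, Polynomial.aeval_algHom_apply, minpoly.aeval, map_zero]
    have hchar : V.charpoly = (P.map (Int.castRingHom ℚ)).map (algebraMap ℚ ℚ_[l]) := by
      rw [LinearMap.charpoly_baseChange, hP, Polynomial.map_map, Polynomial.map_map]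
      exact congrArg (fun r => P.map r) (RingHom.ext_int _ _)
    have hP0 : P.map (Int.castRingHom ℚ) ≠ 0 := fun h0 => by
      rw [h0, Polynomial.map_zero] at hchar
      exact (LinearMap.charpoly_monic V).ne_zero hchar
    have hirr := irreducible_of_normalized_factor r hr
    refine (hirr.dvd_iff_not_isCoprime).2 fun hcop => ?_
    have hcop' : IsCoprime (r.map (algebraMap ℚ ℚ_[l])) (m.map (algebraMap ℚ ℚ_[l])) :=
      hcop.map (Polynomial.mapRingHom (algebraMap ℚ ℚ_[l]))
    obtain ⟨s, hs, hsd⟩ := exists_mem_normalizedFactors_of_dvd (a := V.charpoly)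
      (LinearMap.charpoly_monic V).ne_zero (p := (Polynomial.map (algebraMap ℚ ℚ_[l]) r).factor)
      (Polynomial.irreducible_factor _)
      ((Polynomial.factor_dvd_of_natDegree_ne_zero (by rw [Polynomial.natDegree_map]; exact hirr.natDegree_pos.ne')).trans
        (hchar ▸ Polynomial.map_dvd _ (dvd_of_mem_normalizedFactors hr)))
    refine (Polynomial.irreducible_factor (Polynomial.map (algebraMap ℚ ℚ_[l]) r)).not_isUnit (hcop'.isUnit_of_dvd'
      (Polynomial.factor_dvd_of_natDegree_ne_zero (by rw [Polynomial.natDegree_map]; exact hirr.natDegree_pos.ne'))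
      (hsd.dvd.trans (dvd_of_mem_normalizedFactors_charpoly
        (AVDeg.isSemisimple_tate (φ := EndAV.End.of πA) (l := l) Ω (AVDeg.frob_semisimple πA hb hle happ).2.2)
        hs hann)))

include hb hle happ hl hP in
theorem finrank_end0_eq : Module.finrank ℚ (EndAV.End0 X) =
    ∑ Q ∈ (normalizedFactors (P.map (Int.castRingHom ℚ))).toFinset,
      (normalizedFactors (P.map (Int.castRingHom ℚ))).count Q *
        (normalizedFactors (P.map (Int.castRingHom ℚ))).count Q * Q.natDegree :=
  finrank_end0.trans (finrank_hom_sum_rat Ω hl πA hb hle happ πA hb hle happ hP hP)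

theorem finrank_qadj : Module.finrank ℚ (EndAV.QAdj (EndAV.End.of πA)) =
    (minpoly ℚ (EndAV.toEnd0 (EndAV.End.of πA))).natDegree := by
  haveI := AVDeg.finite_end0 (A := X)
  set a := EndAV.toEnd0 (EndAV.End.of πA)
  have hm : minpoly ℚ a ≠ 0 := minpoly.ne_zero (IsIntegral.of_finite ℚ a)
  rw [← finrank_quotient_span_eq_natDegree (f := minpoly ℚ a)]
  refine (LinearEquiv.finrank_eq ?_).symm
  exact (((Ideal.quotientEquivAlgOfEq ℚ (show Ideal.span {minpoly ℚ a} = RingHom.ker (Polynomial.aeval (R := ℚ) a) by
      ext F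
      rw [Ideal.mem_span_singleton, RingHom.mem_ker]
      exact minpoly.dvd_iff)).trans (Ideal.quotientKerEquivRange (Polynomial.aeval (R := ℚ) a))).trans
    (Subalgebra.equivOfEq _ _ (Algebra.adjoin_singleton_eq_range_aeval ℚ a).symm)).toLinearEquiv

end Groth.Agent.AVTate
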