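import Groth.Agent.AVTate.Cons
import Groth.Agent.AVDeg.ZetaAV
import Mathlib.FieldTheory.Finite.Extension

/-!
# Point counts determine the isogeny class
-/

set_option autoImplicit false
set_option backward.isDefEq.respectTransparency false
set_option backward.isDefEq.respectTransparency.types false
set_option linter.style.haveILetI false
set_option linter.unusedSectionVars false
set_option synthInstance.maxHeartbeats 400000
set_option maxHeartbeats 1000000

universe u

open CategoryTheory MonoidalCategory CartesianMonoidalCategory MonObj GrpObj AlgebraicGeometry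

noncomputable section

namespace Groth.Agent.AVTate

section Roots

theorem sum_powerset_card_zero (S : Multiset ℂ) (c : ℂ) :
    (S.powerset.map fun I => if I.card = 0 then c else 0).sum = c := by
  induction S using Multiset.induction_on with
  | empty => simp
  | cons a T ih =>
    rw [Multiset.powerset_cons, Multiset.map_add, Multiset.sum_add, ih, Multiset.map_map]
    simp

theorem sum_powerset_card_one (S : Multiset ℂ) (b : ℂ) :
    (S.powerset.map fun I => if I.card = 1 ∧ I.prod = b then (-1 : ℂ) else 0).sum = -(S.count b : ℂ) := by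
  classical
  induction S using Multiset.induction_on with
  | empty => simp
  | cons a T ih =>
    rw [Multiset.powerset_cons, Multiset.map_add, Multiset.sum_add, ih, Multiset.map_map,
      Multiset.map_congr rfl (g := fun I => if I.card = 0 then (if a = b then (-1 : ℂ) else 0) else 0) fun I _ => by
        by_cases h0 : I.card = 0
        · rw [Multiset.card_eq_zero] at h0
          subst h0
          simp
        · simp [h0],
      sum_powerset_card_zero, Multiset.count_cons]
    by_cases h : a = b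
    · subst h; simp; ring
    · simp [h, Ne.symm h]

/-- Signed multiplicity of `b` among the products of sub-multisets. -/
def wt (S : Multiset ℂ) (b : ℂ) : ℂ :=
  (S.powerset.map fun I => if I.prod = b then (-1 : ℂ) ^ I.card else 0).sum

theorem sum_wt (S : Multiset ℂ) (B : Finset ℂ) (hB : ∀ I ∈ S.powerset, I.prod ∈ B) (m : ℕ) :
    ∑ b ∈ B, wt S b * b ^ m = (S.map fun a => 1 - a ^ m).prod := by
  classical
  rw [← LinAlg.AltProd.sum_neg_one_pow_powerset]
  unfold wt
  generalize S.powerset = M at hB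
  induction M using Multiset.induction_on with
  | empty => simp
  | cons I T ih =>
    simp only [Multiset.map_cons, Multiset.sum_cons, add_mul, Finset.sum_add_distrib]
    rw [ih fun J hJ => hB J (Multiset.mem_cons_of_mem hJ)]
    simp [ite_mul, Finset.sum_ite_eq, hB I (Multiset.mem_cons_self I T)]

theorem norm_prod_of_forall {r : ℝ} (S : Multiset ℂ) (hS : ∀ a ∈ S, ‖a‖ = r) : ‖S.prod‖ = r ^ S.card := by
  induction S using Multiset.induction_on with
  | empty => simp
  | cons a T ih =>
    rw [Multiset.prod_cons, norm_mul, ih fun b hb => hS b (Multiset.mem_cons_of_mem hb),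
      hS a (Multiset.mem_cons_self a T), Multiset.card_cons, pow_succ']

theorem wt_eq {r : ℝ} (hr : 1 < r) (S : Multiset ℂ) (hS : ∀ a ∈ S, ‖a‖ = r) {b : ℂ} (hb : ‖b‖ = r) :
    wt S b = -(S.count b : ℂ) := by
  rw [← sum_powerset_card_one, wt]
  refine congrArg Multiset.sum (Multiset.map_congr rfl fun I hI => ?_)
  by_cases h : I.prod = b
  · have hc : I.card = 1 := by
      have := norm_prod_of_forall I fun a ha => hS a (Multiset.mem_of_le (Multiset.mem_powerset.1 hI) ha)
      rw [h, hb] at this
      exact (pow_right_injective₀ (zero_lt_one.trans hr) hr.ne' ((pow_one r).trans this)).symm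
    simp [h, hc]
  · simp [h]

/-- Roots of equal absolute value `> 1` are determined by `∏ (1 - α^m)`. -/
theorem roots_eq_of_prod_eq {r : ℝ} (hr : 1 < r) (S T : Multiset ℂ) (hS : ∀ a ∈ S, ‖a‖ = r) (hT : ∀ a ∈ T, ‖a‖ = r)
    (h : ∀ m, 0 < m → (S.map fun a => 1 - a ^ m).prod = (T.map fun a => 1 - a ^ m).prod) : S = T := by
  classical
  set B := ((S.powerset + T.powerset).map Multiset.prod).toFinset with hBdef
  have hBS : ∀ I ∈ S.powerset, I.prod ∈ B := fun I hI =>
    Multiset.mem_toFinset.2 (Multiset.mem_map_of_mem _ (Multiset.mem_add.2 (Or.inl hI)))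
  have hBT : ∀ I ∈ T.powerset, I.prod ∈ B := fun I hI =>
    Multiset.mem_toFinset.2 (Multiset.mem_map_of_mem _ (Multiset.mem_add.2 (Or.inr hI)))
  have hzero : ∀ b ∈ B, (wt S b - wt T b) * b = 0 := by
    have hinj : Function.Injective fun j : Fin B.card => ((B.equivFin.symm j : B) : ℂ) :=
      Subtype.val_injective.comp B.equivFin.symm.injective
    have key := Matrix.eq_zero_of_forall_pow_sum_mul_pow_eq_zero
      (v := fun j : Fin B.card => (wt S (B.equivFin.symm j) - wt T (B.equivFin.symm j)) * (B.equivFin.symm j : ℂ))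
      hinj (fun i => by
        rw [show (∑ j : Fin B.card, (wt S (B.equivFin.symm j) - wt T (B.equivFin.symm j)) * (B.equivFin.symm j : ℂ) *
            (B.equivFin.symm j : ℂ) ^ (i : ℕ)) = ∑ b ∈ B, (wt S b - wt T b) * b ^ ((i : ℕ) + 1) from by
          rw [← Finset.sum_coe_sort B]
          exact Fintype.sum_equiv B.equivFin.symm _ _ fun j => by rw [pow_succ']; ring]
        simp only [sub_mul, Finset.sum_sub_distrib]
        rw [sum_wt S B hBS, sum_wt T B hBT, h _ (Nat.succ_pos _), sub_self])
    intro b hb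
    simpa using congrFun key (B.equivFin ⟨b, hb⟩)
  refine Multiset.ext.2 fun b => ?_
  by_cases hb : ‖b‖ = r
  · have hb0 : b ≠ 0 := fun h0 => by rw [h0, norm_zero] at hb; exact (zero_lt_one.trans hr).ne hb
    by_cases hB : b ∈ B
    · have := (mul_eq_zero.1 (hzero b hB)).resolve_right hb0
      rw [wt_eq hr S hS hb, wt_eq hr T hT hb, sub_eq_zero, neg_inj] at this
      exact_mod_cast this
    · rw [Multiset.count_eq_zero_of_notMem fun hmem => hB (by
          simpa using hBS {b} (Multiset.mem_powerset.2 (Multiset.singleton_le.2 hmem))),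
        Multiset.count_eq_zero_of_notMem fun hmem => hB (by
          simpa using hBT {b} (Multiset.mem_powerset.2 (Multiset.singleton_le.2 hmem)))]
  · rw [Multiset.count_eq_zero_of_notMem fun hmem => hb (hS b hmem),
      Multiset.count_eq_zero_of_notMem fun hmem => hb (hT b hmem)]

end Roots

variable {k : Type u} [Field k] [Finite k]

/-- Extensions of every degree. -/
theorem exists_extension_finrank (m : ℕ) (hm : 0 < m) :
    ∃ (k' : Type u) (_ : Field k') (_ : Algebra k k') (_ : Finite k'), Module.finrank k k' = m := by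
  haveI : Fact (ringChar k).Prime := ⟨CharP.char_is_prime k _⟩
  haveI : NeZero m := ⟨hm.ne'⟩
  refine ⟨ULift.{u} (FiniteField.Extension k (ringChar k) m), inferInstance, inferInstance, inferInstance, ?_⟩
  rw [(ULift.moduleEquiv (R := k) (M := FiniteField.Extension k (ringChar k) m)).finrank_eq]
  exact FiniteField.finrank_extension ..

/-- **Isogenous iff equally many points in every degree.** -/
theorem isog_iff_nPts {X Y : Over (Spec (CommRingCat.of k))}
    [GrpObj X] [IsCommMonObj X] [IsProper X.hom] [GeometricallyIntegral X.hom]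
    [GrpObj Y] [IsCommMonObj Y] [IsProper Y.hom] [GeometricallyIntegral Y.hom] :
    ((∃ (u : X ⟶ Y) (_ : IsMonHom u) (v : Y ⟶ X) (_ : IsMonHom v) (n : ℕ), 0 < n ∧
        u ≫ v = (𝟙 X) ^ n ∧ v ≫ u = (𝟙 Y) ^ n) ↔ ∀ m, 0 < m → Zeta.nPts X.hom m = Zeta.nPts Y.hom m) ∧
    (∀ (k' : Type u) [Field k'] [Algebra k k'] [Finite k'],
      Nat.card (Over.mk (Spec.map (CommRingCat.ofHom (algebraMap k k'))) ⟶ X) = Zeta.nPts X.hom (Module.finrank k k')) := by
  obtain ⟨l, hlp, hl⟩ := exists_prime_ne_zero k
  haveI := Fact.mk hlp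
  let Ω := AlgebraicClosure k
  haveI : IsAlgClosed Ω := IsAlgClosure.isAlgClosed k
  obtain ⟨hfX, hrX⟩ := tate_finite_free (X := X) Ω (l := l) hl
  haveI := hfX
  haveI := hrX
  obtain ⟨hfY, hrY⟩ := tate_finite_free (X := Y) Ω (l := l) hl
  haveI := hfY
  haveI := hrY
  obtain ⟨π, hπ, hπb, hπle, hπapp⟩ := exists_frob X
  obtain ⟨ρ, hρ, hρb, hρle, hρapp⟩ := exists_frob Y
  obtain ⟨g, hg⟩ := AVDeg.exists_dim' (A := X)
  obtain ⟨g', hg'⟩ := AVDeg.exists_dim' (A := Y)
  obtain ⟨P, -, -, -, hP⟩ := AVDeg.exists_charpoly_tate (Ω := Ω) (l := l) hl hg (EndAV.End.of π)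
  obtain ⟨Q, -, -, -, hQ⟩ := AVDeg.exists_charpoly_tate (Ω := Ω) (l := l) hl hg' (EndAV.End.of ρ)
  obtain ⟨hPm, hPd, hPv⟩ := AVDeg.charpoly_tate_data Ω hl hg π hP
  obtain ⟨hQm, hQd, hQv⟩ := AVDeg.charpoly_tate_data Ω hl hg' ρ hQ
  obtain ⟨-, -, -, hPr, -⟩ := AVDeg.frobenius_data Ω hl π hπb hπle hπapp hP hg
  obtain ⟨-, -, -, hQr, -⟩ := AVDeg.frobenius_data Ω hl ρ hρb hρle hρapp hQ hg'
  obtain ⟨hX1, hX2⟩ := AVDeg.card_points_eq_prod Ω π hπb hπle hπapp hg hPm hPd hPv
  obtain ⟨hY1, -⟩ := AVDeg.card_points_eq_prod Ω ρ hρb hρle hρapp hg' hQm hQd hQv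
  refine ⟨(isog_iff_charpoly Ω hl π hπb hπle hπapp ρ hρb hρle hρapp).trans ⟨fun h m hm => ?_, fun h => ?_⟩,
    fun k' _ _ _ => ?_⟩
  · have hPQ : P = Q := Polynomial.map_injective _ (Int.castRingHom ℤ_[l]).injective_int (hP.symm.trans (h.trans hQ))
    have h1 := hX1 m hm
    rw [hPQ, ← hY1 m hm] at h1
    exact_mod_cast h1
  · have hq : (1 : ℝ) < Real.sqrt (Nat.card k) := by
      rw [Real.lt_sqrt zero_le_one, one_pow]
      exact_mod_cast Finite.one_lt_card (α := k)
    have hflip : ∀ (R : Polynomial ℤ) (g : ℕ), R.Monic → R.natDegree = 2 * g → ∀ m : ℕ,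
        ((R.map (Int.castRingHom ℂ)).roots.map fun ω => 1 - ω ^ m).prod =
          ((R.map (Int.castRingHom ℂ)).roots.map fun ω => ω ^ m - 1).prod := by
      intro R g hRm hRd m
      rw [show (fun ω : ℂ => 1 - ω ^ m) = Neg.neg ∘ fun ω : ℂ => ω ^ m - 1 from funext fun ω => (neg_sub _ _).symm,
        ← Multiset.map_map, Multiset.prod_map_neg, Multiset.card_map,
        ← (IsAlgClosed.splits _).natDegree_eq_card_roots, hRm.natDegree_map, hRd, (even_two_mul g).neg_one_pow,
        _root_.one_mul]
    have hroots := roots_eq_of_prod_eq hq (P.map (Int.castRingHom ℂ)).roots (Q.map (Int.castRingHom ℂ)).roots hPr hQr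
      fun m hm => by rw [hflip P g hPm hPd, hflip Q g' hQm hQd, ← hX1 m hm, ← hY1 m hm, h m hm]
    have hC : P.map (Int.castRingHom ℂ) = Q.map (Int.castRingHom ℂ) := by
      rw [(IsAlgClosed.splits (P.map (Int.castRingHom ℂ))).eq_prod_roots_of_monic (hPm.map _), hroots,
        ← (IsAlgClosed.splits (Q.map (Int.castRingHom ℂ))).eq_prod_roots_of_monic (hQm.map _)]
    have hPQ : P = Q := Polynomial.map_injective _ (Int.castRingHom ℂ).injective_int hC
    exact hP.trans (hPQ ▸ hQ.symm)
  · exact_mod_cast (hX2 k').trans (hX1 _ Module.finrank_pos).symm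

open WeilLib in
/-- The zeta function determines, and is determined by, the numbers of points. -/
theorem zetaFun_eq_iff {X Y : Scheme.{u}} (f : X ⟶ Spec (CommRingCat.of k)) (g : Y ⟶ Spec (CommRingCat.of k)) :
    Zeta.zetaFun f = Zeta.zetaFun g ↔ ∀ m, 0 < m → Zeta.nPts f m = Zeta.nPts g m := by
  constructor
  · intro h m hm
    obtain ⟨hf, hf0⟩ := logD_exp_subst (K := ℂ) (fun m => (Zeta.nPts f m : ℚ)) (by simp [Zeta.nPts])
    obtain ⟨hg, -⟩ := logD_exp_subst (K := ℂ) (fun m => (Zeta.nPts g m : ℚ)) (by simp [Zeta.nPts])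
    have heq : PowerSeries.map (algebraMap ℚ ℂ) (Zeta.zetaFun g) = PowerSeries.map (algebraMap ℚ ℂ) (Zeta.zetaFun f) := by
      rw [h]
    unfold LogD at hf hg
    simp only [Zeta.zetaFun, Zeta.logZeta] at heq
    rw [heq] at hg
    have hne : PowerSeries.map (algebraMap ℚ ℂ)
        (PowerSeries.subst (PowerSeries.mk fun m => (Zeta.nPts f m : ℚ) / m) (PowerSeries.exp ℚ)) ≠ 0 := fun h0 => by
      rw [h0, map_zero] at hf0
      exact zero_ne_one hf0
    have := congrArg (PowerSeries.coeff (m - 1)) (mul_left_cancel₀ hne (hf.symm.trans hg))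
    rw [PowerSeries.coeff_mk, PowerSeries.coeff_mk, Nat.sub_add_cancel hm] at this
    exact_mod_cast this
  · intro h
    have : Zeta.logZeta f = Zeta.logZeta g := PowerSeries.ext fun m => by
      rcases Nat.eq_zero_or_pos m with rfl | hm
      · simp [Zeta.logZeta, Zeta.nPts]
      · simp [Zeta.logZeta, h m hm]
    rw [Zeta.zetaFun, Zeta.zetaFun, this]

end Groth.Agent.AVTate
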