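import Groth.Agent.AVTate.Points
import Groth.Agent.AVTheta.Desc
import Groth.Agent.AVTheta.Pairing
import Groth.Agent.AVFin.Finite
import Groth.Agent.W7Hull.AmpleSurj
import Groth.Agent.SpQS.FieldImm
import Groth.Agent.FieldPow.Main
import Groth.Agent.S7859

/-!
# Quotients by isotropic lattices carry polarisations of fixed degree
-/

set_option autoImplicit false
set_option backward.isDefEq.respectTransparency false
set_option backward.isDefEq.respectTransparency.types false
set_option linter.style.haveILetI false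
set_option linter.unusedSectionVars false
set_option maxHeartbeats 1000000

universe u

open CategoryTheory CategoryTheory.Limits MonoidalCategory CartesianMonoidalCategory MonObj GrpObj AlgebraicGeometry

noncomputable section

namespace Groth.Agent.AVTate

attribute [local instance] W7Cube.law AVDeg.overInst

variable {k Ω : Type u} [Field k] [Field Ω] [Algebra k Ω]
variable {X : Over (Spec (CommRingCat.of k))} [GrpObj X] [IsCommMonObj X] [IsProper X.hom] [GeometricallyIntegral X.hom]

/-- The Euler characteristic of an ample module is the number of its sections. -/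
theorem euler_eq_h0 {M : X.left.Modules} (hM : CohB1.IsAmple M) :
    Curv2.euler k X.left M = (CurveRR.h k M 0 : ℤ) := by
  have h := CurveRR.euler_eq_sum (k := k) M 1 fun i hi => AVFin.hh_pos hM i hi
  simpa using h

variable {l : ℕ} [Fact l.Prime]

/-- The points coming from a saturated lattice at a given level. -/
theorem natCard_level [Module.Free ℤ_[l] (AbDual.TateMod X l (SGA7.pt (K := k) Ω))]
    [Module.Finite ℤ_[l] (AbDual.TateMod X l (SGA7.pt (K := k) Ω))]
    (L : Submodule ℤ_[l] (AbDual.TateMod X l (SGA7.pt (K := k) Ω)))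
    (hsat : ∀ (n : ℕ) z, ((l : ℤ_[l]) ^ n) • z ∈ L → z ∈ L) {g : ℕ} (hrank : Module.finrank ℤ_[l] L = g) (m : ℕ) :
    Nat.card {x : SGA7.pt (K := k) Ω ⟶ X //
      ∃ z ∈ L, (AbDual.TateMod.component X l (SGA7.pt (K := k) Ω) m z).toMul = x} = (l ^ m) ^ g := by
  haveI : Module.Finite ℤ_[l] L := Module.IsNoetherian.finite _ _
  haveI : Module.Free ℤ_[l] L := Module.free_of_finite_type_torsion_free'
  let b : Module.Basis (Fin g) ℤ_[l] L := (Module.finBasis ℤ_[l] L).reindex (finCongr hrank)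
  let f₁ : L →+ Additive (SGA7.pt (K := k) Ω ⟶ X) :=
    (AbDual.TateMod.component X l (SGA7.pt (K := k) Ω) m).comp L.subtype.toAddMonoidHom
  let f₂ : L →+ (Fin g → ZMod (l ^ m)) :=
    AddMonoidHom.mk' (fun z i => PadicInt.toZModPow m (b.repr z i)) fun z w => funext fun i => by
      simp only [map_add, Finsupp.coe_add, Pi.add_apply]
  have hker : f₁.ker = f₂.ker := by
    ext z
    rw [AddMonoidHom.mem_ker, AddMonoidHom.mem_ker]
    constructor
    · intro h
      obtain ⟨w, hw⟩ := AVQuot.exists_smul_of_component_eq_zero (L.subtype z) m h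
      have hwL : w ∈ L := hsat m w (hw ▸ z.2)
      have e : ((l : ℤ_[l]) ^ m) • (⟨w, hwL⟩ : L) = z := Subtype.ext hw
      funext i
      show PadicInt.toZModPow m (b.repr z i) = 0
      rw [← e, map_smul, Finsupp.smul_apply, smul_eq_mul, map_mul, map_pow, map_natCast, ← Nat.cast_pow,
        ZMod.natCast_self, zero_mul]
    · intro h
      have hd : ∀ i, ∃ c, b.repr z i = ((l : ℤ_[l]) ^ m) * c := fun i => by
        have h1 : b.repr z i ∈ RingHom.ker (PadicInt.toZModPow (p := l) m) := congrFun h i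
        rw [PadicInt.ker_toZModPow] at h1
        exact Ideal.mem_span_singleton.1 h1
      choose c hc using hd
      have e : z = ((l : ℤ_[l]) ^ m) • ∑ i, c i • b i := by
        conv_lhs => rw [← b.sum_repr z]
        rw [Finset.smul_sum]
        exact Finset.sum_congr rfl fun i _ => by rw [hc, mul_smul]
      show AbDual.TateMod.component X l (SGA7.pt (K := k) Ω) m (L.subtype z) = 0
      rw [e, map_smul, ← Nat.cast_pow, AVQuot.component_natCast_smul]
      exact (L.subtype (∑ i, c i • b i)).torsion m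
  have h2 : Function.Surjective f₂ := fun y => by
    choose r hr using fun i => ZMod.ringHom_surjective (PadicInt.toZModPow (p := l) m) (y i)
    refine ⟨∑ i, r i • b i, funext fun i => ?_⟩
    show PadicInt.toZModPow m (b.repr (∑ j, r j • b j) i) = y i
    rw [b.repr_sum_self]
    exact hr i
  haveI : NeZero (l ^ m) := ⟨pow_ne_zero _ (Fact.out : l.Prime).ne_zero⟩
  calc Nat.card _ = Nat.card f₁.range := Nat.card_congr
        ((Equiv.subtypeEquiv Additive.ofMul fun x => ⟨fun ⟨z, hz, e⟩ => ⟨⟨z, hz⟩, congrArg Additive.ofMul e⟩,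
          fun ⟨z, e⟩ => ⟨z, z.2, congrArg Additive.toMul e⟩⟩))
    _ = f₂.ker.index := by rw [← AddSubgroup.index_ker, hker]
    _ = (l ^ m) ^ g := by
      rw [AddSubgroup.index_ker, AddMonoidHom.range_eq_top.2 h2,
        Nat.card_congr AddSubgroup.topEquiv.toEquiv, Nat.card_fun, Nat.card_zmod, Nat.card_fin]

/-- **Finiteness for isotropic lattices.** -/
theorem finQuot_lagrangian [Finite k] [IsAlgClosure k Ω] (hodd : Odd l) (hl : (l : k) ≠ 0) {g : ℕ}
    (hg : topologicalKrullDim X.left = (g : WithBot ℕ∞)) {H : X.left.Modules} (hH : CohB1.IsAmple H)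
    (hsym : W7Cube.pc (PicGrp.cls H hH.1) (𝟙 X)⁻¹ = PicGrp.cls H hH.1)
    [Module.Free ℤ_[l] (AbDual.TateMod X l (SGA7.pt (K := k) Ω))]
    [Module.Finite ℤ_[l] (AbDual.TateMod X l (SGA7.pt (K := k) Ω))]
    (E : AbDual.TateMod X l (SGA7.pt (K := k) Ω) →ₗ[ℤ_[l]] AbDual.TateMod X l (SGA7.pt (K := k) Ω) →ₗ[ℤ_[l]] ℤ_[l])
    (hE : ∀ z w, E z w = 0 → ∀ j : ℕ, AVTheta.IsEps (AVTheta.Ln (PicGrp.cls H hH.1) (l ^ (2 * j)))
        (AbDual.TateMod.component X l (SGA7.pt (K := k) Ω) (2 * j) z).toMul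
        (AbDual.TateMod.component X l (SGA7.pt (K := k) Ω) (2 * j) w).toMul 1)
    (L : Submodule ℤ_[l] (AbDual.TateMod X l (SGA7.pt (K := k) Ω)))
    (hsat : ∀ (n : ℕ) z, ((l : ℤ_[l]) ^ n) • z ∈ L → z ∈ L) (hrank : Module.finrank ℤ_[l] L = g)
    (hiso : ∀ z ∈ L, ∀ w ∈ L, E z w = 0) : AVQuot.FinQuot l X L := by
  haveI : IsAlgClosed Ω := IsAlgClosure.isAlgClosed k
  obtain ⟨J, hJ, F, hF⟩ := AVFin.exists_finite_reps k g (CurveRR.h k H 0)
  refine ⟨J, hJ, F, fun Y _ _ _ _ q _ v _ m hm hqv hvq hker => ?_⟩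
  obtain ⟨j, rfl⟩ : ∃ j, m = 2 * j := ⟨m / 2, by obtain ⟨r, hr⟩ := hm; omega⟩
  set n := l ^ (2 * j) with hn
  have hn0 : n ≠ 0 := pow_ne_zero _ (Fact.out : l.Prime).ne_zero
  have hnk : ((n : ℤ) : k) ≠ 0 := by rw [Int.cast_natCast, hn, Nat.cast_pow]; exact pow_ne_zero _ hl
  haveI := AVDeg.isIntegral_av X
  haveI := AVDeg.isIntegral_av Y
  haveI : IsMonHom (𝟙 X ^ n) := AVDeg.isMonHom_id_pow (A := X) n
  haveI : IsMonHom (𝟙 Y ^ n) := AVDeg.isMonHom_id_pow (A := Y) n
  haveI : IsSeparated v.left := by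
    haveI : IsSeparated (v.left ≫ X.hom) := by rw [Over.w v]; infer_instance
    exact IsSeparated.of_comp v.left X.hom
  haveI : IsSeparated q.left := by
    haveI : IsSeparated (q.left ≫ Y.hom) := by rw [Over.w q]; infer_instance
    exact IsSeparated.of_comp q.left Y.hom
  haveI : IsFinite q.left := by
    haveI : IsFinite (q.left ≫ v.left) := by
      rw [← Over.comp_left, hqv]; exact AVDeg.isFinite_pow_id (A := X) hn0
    exact IsFinite.of_comp q.left v.left
  haveI : Surjective q.left := by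
    haveI : IsFinite (𝟙 Y ^ n).left := AVDeg.isFinite_pow_id (A := Y) hn0
    haveI : Surjective (v.left ≫ q.left) := by
      rw [← Over.comp_left, hvq]; exact GrpField.surjective_of_isFinite (𝟙 Y ^ n) rfl
    exact Surjective.of_comp v.left q.left
  have hgY : topologicalKrullDim Y.left = (g : WithBot ℕ∞) := (GrpField.dim_eq_of_isFinite q).symm.trans hg
  haveI : Flat q.left := GrpField.flat_of_surjective q
  haveI : IsLocallyNoetherian Y.left := LocallyOfFiniteType.isLocallyNoetherian Y.hom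
  haveI : LocallyOfFinitePresentation q.left := inferInstance
  haveI : Etale q.left := by
    haveI : Etale (q.left ≫ v.left) := by
      rw [← Over.comp_left, hqv, ← zpow_natCast]; exact FieldPow.etale_pow X hnk
    haveI : FormallyUnramified q.left := FormallyUnramified.of_comp q.left v.left
    exact Etale.of_formallyUnramified_of_flat _
  -- the kernel
  obtain ⟨N, _, i, hi, hmono, hsq, hmem⟩ := AgIsog.exists_kernel q
  haveI : IsFinite N.hom := MorphismProperty.of_isPullback (P := @IsFinite) hsq ‹IsFinite q.left›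
  haveI : Etale N.hom := MorphismProperty.of_isPullback (P := @Etale) hsq ‹Etale q.left›
  haveI : Etale (N ⊗ N).hom := inferInstanceAs (Etale (pullback.fst N.hom N.hom ≫ N.hom))
  haveI : IsReduced (N ⊗ N).left := SpQS.isReduced_of_etale_reduced (N ⊗ N).hom
  have hiq : i ≫ q = 1 := (hmem N i).1 ⟨𝟙 N, Category.id_comp i⟩
  have hN : AlgGrp.IsKernel i q := by
    have sq : CommSq i (toUnit N) q η[Y] :=
      ⟨hiq.trans (show (1 : N ⟶ Y) = toUnit N ≫ η[Y] from Hom.one_def)⟩
    have hz : ∀ s : PullbackCone q η[Y], ∃ z : s.pt ⟶ N, z ≫ i = s.fst := fun s => (hmem _ _).2 (by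
      rw [s.condition, toUnit_unique s.snd (toUnit _), Hom.one_def])
    exact IsPullback.of_isLimit' sq (PullbackCone.IsLimit.mk sq.w (fun s => (hz s).choose)
      (fun s => (hz s).choose_spec) (fun s => toUnit_unique _ _)
      fun s z h1 _ => (cancel_mono i).1 (h1.trans (hz s).choose_spec.symm))
  have hin : i ^ n = 1 := by
    rw [show i ^ n = i ≫ (𝟙 X ^ n) by rw [MonObj.comp_pow, Category.comp_id], ← hqv, ← Category.assoc, hiq,
      MonObj.one_comp]
  -- the module
  let c := PicGrp.cls H hH.1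
  obtain ⟨e⟩ := AVTheta.nonempty_inv_Ln c hsym n
  obtain ⟨M, hMi, ⟨eM⟩⟩ := AVTheta.exists_desc_symm (Ω := Ω) q inferInstance i hN (hodd.pow) hin
    (AVTheta.isInvertible_Ln c n) (AVTheta.mum_Ln c i hin) e (fun x y hx hy => by
      obtain ⟨z, hz, rfl⟩ := (hker x).1 hx
      obtain ⟨w, hw, rfl⟩ := (hker y).1 hy
      exact hE z w (hiso z hz w hw) j)
  have hLa : CohB1.IsAmple (AVTheta.Ln c n) := by
    have h := TMul.isAmple_tensorPow hH (Nat.pos_of_ne_zero hn0)
    obtain ⟨e'⟩ := (PicGrp.cls_eq_cls_iff h.1 (AVTheta.isInvertible_Ln c n)).1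
      (by rw [AVDeg.cls_tensorPow hH.1, AVTheta.cls_Ln])
    exact TMul.isAmple_congr e' h
  haveI : IsProper (X.left ↘ Spec (CommRingCat.of k)) := inferInstanceAs (IsProper X.hom)
  haveI : IsProper (Y.left ↘ Spec (CommRingCat.of k)) := inferInstanceAs (IsProper Y.hom)
  haveI := CurveRR.isNoetherian_of_proper k Y.left
  have hMa : CohB1.IsAmple M := W7Hull.isAmple_of_pullback X.hom q.left M hMi (TMul.isAmple_congr eM.symm hLa)
  -- the number of sections
  haveI : Nonempty Y.left := ⟨η[Y].left (IsLocalRing.closedPoint k)⟩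
  have hdeg : ∀ y : Y.left, q.left.finrank y = n ^ g := fun y => by
    rw [finrank_eq_natCard_ker (Ω := Ω) q y, Nat.card_congr (Equiv.subtypeEquivRight hker)]
    exact natCard_level L hsat hrank (2 * j)
  have heul := Groth.Agent.S7859.result k X Y q (n ^ g) hdeg M
    ⟨TMul.isQCoh_of_isInvertible hMi, TMul.isFT_of_isInvertible hMi⟩
  have h1 : (CurveRR.h k (AVTheta.Ln c n) 0 : ℤ) = ((n ^ g : ℕ) : ℤ) * (CurveRR.h k M 0 : ℤ) := by
    rw [← euler_eq_h0 hLa, ← euler_eq_h0 hMa, ← CurveRR.euler_eq_of_iso eM]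
    exact heul
  rw [AVFin.h0_pow hg hH hLa (AVTheta.cls_Ln c n)] at h1
  have hMd : CurveRR.h k M 0 = CurveRR.h k H 0 := by
    have h2 : n ^ g * CurveRR.h k H 0 = n ^ g * CurveRR.h k M 0 := by exact_mod_cast h1
    exact (Nat.eq_of_mul_eq_mul_left (pow_pos (Nat.pos_of_ne_zero hn0) g) h2).symm
  exact hF Y hgY M hMa hMd

end Groth.Agent.AVTate
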