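import Mathlib.LinearAlgebra.FiniteDimensional.Lemmas
import Mathlib.FieldTheory.Separable
import Mathlib.Algebra.Polynomial.Splits
import Mathlib.LinearAlgebra.BilinearMap
import Mathlib.LinearAlgebra.Dual.Lemmas

/-!
# Split semisimple operators, isotropic invariant subspaces and commutants
-/

set_option autoImplicit false
set_option linter.unusedSectionVars false

namespace Groth.Agent.AVTate

open Polynomial Module

variable {K V : Type*} [Field K] [AddCommGroup V] [Module K V]

/-- Invariant subspaces are invariant under polynomials. -/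
theorem aeval_mem (f : Module.End K V) {W : Submodule K V} (hW : ∀ x ∈ W, f x ∈ W) (p : K[X]) :
    ∀ x ∈ W, aeval f p x ∈ W := by
  induction p using Polynomial.induction_on with
  | C a => intro x hx; rw [aeval_C, Module.algebraMap_end_apply]; exact W.smul_mem a hx
  | add p q hp hq => intro x hx; rw [map_add, LinearMap.add_apply]; exact W.add_mem (hp x hx) (hq x hx)
  | monomial n a hp =>
    intro x hx
    rw [pow_succ, ← mul_assoc, map_mul, aeval_X, Module.End.mul_apply]
    exact hp _ (hW x hx)

/-- In an invariant subspace killed by a separable split polynomial the eigenvectors span. -/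
theorem mem_span_eigen (f : Module.End K V) {W : Submodule K V} (hW : ∀ x ∈ W, f x ∈ W) :
    ∀ (s : Multiset K), s.Nodup → ∀ x ∈ W, aeval f (s.map (X - C ·)).prod x = 0 →
      x ∈ Submodule.span K {y | y ∈ W ∧ ∃ a : K, f y = a • y} := by
  intro s
  induction s using Multiset.induction_on with
  | empty =>
    intro _ x _ h
    rw [Multiset.map_zero, Multiset.prod_zero, map_one, Module.End.one_apply] at h
    rw [h]; exact Submodule.zero_mem _
  | cons a s ih =>
    intro hs x hx h
    rw [Multiset.nodup_cons] at hs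
    set r := (s.map (X - C ·)).prod with hr
    rw [Multiset.map_cons, Multiset.prod_cons, map_mul, Module.End.mul_apply, map_sub, aeval_X, aeval_C,
      LinearMap.sub_apply, Module.algebraMap_end_apply, sub_eq_zero] at h
    set y := aeval f r x with hy
    have hyW : y ∈ W := aeval_mem f hW r x hx
    have hra : r.eval a ≠ 0 := by
      rw [hr, eval_multiset_prod, Multiset.map_map]
      refine Multiset.prod_ne_zero fun h0 => ?_
      obtain ⟨b, hb, hb0⟩ := Multiset.mem_map.1 h0
      simp only [Function.comp_apply, eval_sub, eval_X, eval_C, sub_eq_zero] at hb0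
      exact hs.1 (hb0 ▸ hb)
    have hev : ∀ p : K[X], aeval f p y = p.eval a • y := fun p => by
      induction p using Polynomial.induction_on with
      | C c => rw [aeval_C, Module.algebraMap_end_apply, eval_C]
      | add p q hp hq => rw [map_add, LinearMap.add_apply, hp, hq, eval_add, add_smul]
      | monomial n c hp =>
        rw [pow_succ, ← mul_assoc, map_mul, aeval_X, Module.End.mul_apply, h, map_smul, hp, smul_smul,
          eval_mul_X, mul_comm]
    have hx' : x - (r.eval a)⁻¹ • y ∈ Submodule.span K {z | z ∈ W ∧ ∃ b : K, f z = b • z} := by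
      refine ih hs.2 _ (W.sub_mem hx (W.smul_mem _ hyW)) ?_
      rw [map_sub, map_smul, hev, smul_smul, inv_mul_cancel₀ hra, one_smul, hy, sub_self]
    rw [← sub_add_cancel x ((r.eval a)⁻¹ • y)]
    exact Submodule.add_mem _ hx' (Submodule.smul_mem _ _ (Submodule.subset_span ⟨hyW, a, h⟩))

/-- Invariant subspaces are spanned by eigenvectors. -/
theorem le_span_eigen (f : Module.End K V) {m : K[X]} (hm : m.Splits) (hs : m.Separable) (hf : aeval f m = 0)
    {W : Submodule K V} (hW : ∀ x ∈ W, f x ∈ W) :
    W ≤ Submodule.span K {y | y ∈ W ∧ ∃ a : K, f y = a • y} := fun x hx => by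
  refine mem_span_eigen f hW m.roots (nodup_roots hs) x hx ?_
  have h := congrArg (fun g : Module.End K V => g x) hf
  rw [hm.eq_prod_roots, map_mul, aeval_C] at h
  simp only [Module.End.mul_apply, Module.algebraMap_end_apply, LinearMap.zero_apply] at h
  exact (smul_eq_zero.1 h).resolve_left (leadingCoeff_ne_zero.2 hs.ne_zero)

/-- An endomorphism that fixes all lines of eigenvectors commutes with the commutant. -/
theorem commute_of_lines (f : Module.End K V) {m : K[X]} (hm : m.Splits) (hs : m.Separable) (hf : aeval f m = 0)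
    (c φ : Module.End K V) (hφ : ∀ x, φ (f x) = f (φ x))
    (hc : ∀ x : V, (∃ a : K, f x = a • x) → c x ∈ K ∙ x) : φ * c = c * φ := by
  refine LinearMap.ext fun x => ?_
  have hx := le_span_eigen f hm hs hf (W := ⊤) (fun _ _ => trivial) (x := x) trivial
  induction hx using Submodule.span_induction with
  | zero => rw [map_zero, map_zero]
  | add p q _ _ hp hq => rw [map_add, map_add, hp, hq]
  | smul r p _ hp => rw [map_smul, map_smul, hp]
  | mem y hy =>
    obtain ⟨-, a, ha⟩ := hy
    have hya : f (φ y) = a • φ y := by rw [← hφ, ha, map_smul]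
    obtain ⟨α, hα⟩ := Submodule.mem_span_singleton.1 (hc y ⟨a, ha⟩)
    obtain ⟨β, hβ⟩ := Submodule.mem_span_singleton.1 (hc (φ y) ⟨a, hya⟩)
    rw [Module.End.mul_apply, Module.End.mul_apply, ← hα, map_smul, ← hβ]
    by_cases hli : LinearIndependent K ![y, φ y]
    · obtain ⟨γ, hγ⟩ := Submodule.mem_span_singleton.1 (hc (y + φ y) ⟨a, by rw [map_add, ha, hya, smul_add]⟩)
      rw [map_add, ← hα, ← hβ, smul_add] at hγ
      have h0 : (α - γ) • y + (β - γ) • φ y = 0 := by
        rw [sub_smul, sub_smul, sub_add_sub_comm, hγ, sub_self]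
      have h1 := LinearIndependent.pair_iff.1 hli _ _ h0
      rw [sub_eq_zero.1 h1.1, sub_eq_zero.1 h1.2]
    · rw [LinearIndependent.pair_iff] at hli
      push Not at hli
      obtain ⟨s, t, hst, hne⟩ := hli
      by_cases hy0 : y = 0
      · simp [hy0]
      by_cases ht : t = 0
      · rw [ht, zero_smul, add_zero, smul_eq_zero] at hst
        exact absurd ht (hne (hst.resolve_right hy0))
      have hpr : φ y = (-(t⁻¹ * s)) • y := by
        rw [neg_smul, ← smul_smul, eq_neg_of_add_eq_zero_left hst, smul_neg, neg_neg, smul_smul,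
          inv_mul_cancel₀ ht, one_smul]
      have : c (φ y) = α • φ y := by rw [hpr, map_smul, ← hα, smul_comm]
      rw [hβ, this]

variable [FiniteDimensional K V]

/-- **Descending induction on isotropic invariant subspaces.**  If the maximal ones are preserved
by an endomorphism, so is every eigenline. -/
theorem mem_line_of_isotropic (f : Module.End K V) {m : K[X]} (hm : m.Splits) (hs : m.Separable) (hf : aeval f m = 0)
    (B : V →ₗ[K] V →ₗ[K] K) (halt : ∀ x, B x x = 0) {q : K} (hB : ∀ x y, B (f x) (f y) = q * B x y)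
    (hinj : Function.Injective f) {g : ℕ} (hg : finrank K V = 2 * g) (c : Module.End K V)
    (hmax : ∀ W : Submodule K V, (∀ x ∈ W, f x ∈ W) → (∀ x ∈ W, ∀ y ∈ W, B x y = 0) → finrank K W = g →
      ∀ x ∈ W, c x ∈ W)
    (x : V) (hx : ∃ a : K, f x = a • x) : c x ∈ K ∙ x := by
  have hskew : ∀ a b, B a b = -B b a := fun a b => by
    have := halt (a + b)
    simp only [map_add, LinearMap.add_apply, halt, zero_add, add_zero] at this
    exact eq_neg_of_add_eq_zero_right this
  suffices key : ∀ (n : ℕ) (W : Submodule K V), (∀ x ∈ W, f x ∈ W) → (∀ x ∈ W, ∀ y ∈ W, B x y = 0) →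
      finrank K W + n = g → ∀ x ∈ W, c x ∈ W by
    by_cases hx0 : x = 0
    · rw [hx0, map_zero]; exact Submodule.zero_mem _
    have h1 : finrank K (K ∙ x) = 1 := finrank_span_singleton hx0
    have hgpos : 1 ≤ g := by
      have h2 := Submodule.finrank_le (K ∙ x)
      omega
    obtain ⟨a, ha⟩ := hx
    refine key (g - 1) (K ∙ x) (fun y hy => ?_) (fun y hy z hz => ?_) (by omega) x (Submodule.mem_span_singleton_self x)
    · obtain ⟨b, rfl⟩ := Submodule.mem_span_singleton.1 hy
      rw [map_smul, ha]
      exact Submodule.smul_mem _ _ (Submodule.smul_mem _ _ (Submodule.mem_span_singleton_self x))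
    · obtain ⟨b, rfl⟩ := Submodule.mem_span_singleton.1 hy
      obtain ⟨b', rfl⟩ := Submodule.mem_span_singleton.1 hz
      simp [halt]
  intro n
  induction n using Nat.strong_induction_on with
  | _ n ih =>
    intro W hW hWi hWn
    rcases Nat.eq_zero_or_pos n with rfl | hn
    · exact hmax W hW hWi hWn
    let Φ : V →ₗ[K] W →ₗ[K] K := (LinearMap.lcomp K K W.subtype) ∘ₗ B
    let P := LinearMap.ker Φ
    have hP : ∀ {z : V}, z ∈ P ↔ ∀ w ∈ W, B z w = 0 := fun {z} =>
      ⟨fun h w hw => LinearMap.congr_fun (LinearMap.mem_ker.1 h) ⟨w, hw⟩,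
        fun h => LinearMap.mem_ker.2 (LinearMap.ext fun w => h _ w.2)⟩
    have hPf : ∀ z ∈ P, f z ∈ P := by
      intro z hz
      refine hP.2 fun w hw => ?_
      obtain ⟨⟨w', hw'⟩, e⟩ := (LinearMap.injective_iff_surjective (f := f.restrict hW)).1
        (fun a b hab => Subtype.ext (hinj (congrArg Subtype.val hab))) ⟨w, hw⟩
      have e' : f w' = w := congrArg Subtype.val e
      rw [← e', hB, hP.1 hz w' hw', mul_zero]
    have hWP : W ≤ P := fun z hz => hP.2 fun w hw => hWi z hz w hw
    have hdim : finrank K W + 2 ≤ finrank K P := by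
      have h1 := LinearMap.finrank_range_add_finrank_ker Φ
      have h2 : finrank K (LinearMap.range Φ) ≤ finrank K W :=
        (Submodule.finrank_le _).trans_eq (Subspace.dual_finrank_eq (K := K) (V := W))
      have h3 : finrank K P = finrank K (LinearMap.ker Φ) := rfl
      omega
    have hpick : ∀ U : Submodule K V, finrank K U < finrank K P → ∃ z ∈ P, (∃ a : K, f z = a • z) ∧ z ∉ U := by
      intro U hU
      by_contra hcon
      push Not at hcon
      have : P ≤ U := (le_span_eigen f hm hs hf hPf).trans (Submodule.span_le.2 fun z hz => hcon z hz.1 hz.2)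
      exact absurd (Submodule.finrank_mono this) (not_le.2 hU)
    have hext : ∀ z ∈ P, (∃ a : K, f z = a • z) → z ∉ W →
        (∀ y ∈ W ⊔ K ∙ z, f y ∈ W ⊔ K ∙ z) ∧ (∀ y ∈ W ⊔ K ∙ z, ∀ y' ∈ W ⊔ K ∙ z, B y y' = 0) ∧
          finrank K (W ⊔ K ∙ z : Submodule K V) = finrank K W + 1 := by
      rintro z hz ⟨a, ha⟩ hzW
      refine ⟨fun y hy => ?_, fun y hy y' hy' => ?_, ?_⟩
      · obtain ⟨w, hw, v, hv, rfl⟩ := Submodule.mem_sup.1 hy
        obtain ⟨b, rfl⟩ := Submodule.mem_span_singleton.1 hv
        rw [map_add, map_smul, ha]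
        exact Submodule.add_mem_sup (hW w hw)
          (Submodule.smul_mem _ _ (Submodule.smul_mem _ _ (Submodule.mem_span_singleton_self z)))
      · obtain ⟨w, hw, v, hv, rfl⟩ := Submodule.mem_sup.1 hy
        obtain ⟨w', hw', v', hv', rfl⟩ := Submodule.mem_sup.1 hy'
        obtain ⟨b, rfl⟩ := Submodule.mem_span_singleton.1 hv
        obtain ⟨b', rfl⟩ := Submodule.mem_span_singleton.1 hv'
        have h1 : B z w' = 0 := hP.1 hz w' hw'
        have h2 : B w z = 0 := by rw [hskew, hP.1 hz w hw, neg_zero]
        simp [hWi w hw w' hw', h1, h2, halt]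
      · have hz0 : z ≠ 0 := fun h => hzW (h ▸ W.zero_mem)
        have hd : W ⊓ K ∙ z = ⊥ := by
          rw [eq_bot_iff]
          rintro y ⟨hy1, hy2⟩
          obtain ⟨b, rfl⟩ := Submodule.mem_span_singleton.1 hy2
          by_cases hb : b = 0
          · simp [hb]
          exact absurd ((W.smul_mem_iff hb).1 hy1) hzW
        have := Submodule.finrank_sup_add_finrank_inf_eq W (K ∙ z)
        rw [hd, finrank_bot, finrank_span_singleton hz0, add_zero] at this
        exact this
    obtain ⟨x₁, hx₁P, hx₁e, hx₁W⟩ := hpick W (by omega)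
    obtain ⟨h1a, h1b, h1c⟩ := hext x₁ hx₁P hx₁e hx₁W
    obtain ⟨x₂, hx₂P, hx₂e, hx₂W⟩ := hpick (W ⊔ K ∙ x₁) (by omega)
    obtain ⟨h2a, h2b, h2c⟩ := hext x₂ hx₂P hx₂e (fun h => hx₂W (Submodule.mem_sup_left h))
    intro w hw
    have e1 := ih (n - 1) (by omega) _ h1a h1b (by omega) w (Submodule.mem_sup_left hw)
    have e2 := ih (n - 1) (by omega) _ h2a h2b (by omega) w (Submodule.mem_sup_left hw)
    obtain ⟨w₂, hw₂, v₂, hv₂, e⟩ := Submodule.mem_sup.1 e2
    obtain ⟨b, rfl⟩ := Submodule.mem_span_singleton.1 hv₂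
    by_cases hb : b = 0
    · rw [hb, zero_smul, add_zero] at e
      exact e ▸ hw₂
    refine absurd ?_ hx₂W
    have : b • x₂ ∈ W ⊔ K ∙ x₁ := by
      rw [eq_sub_of_add_eq' e]
      exact Submodule.sub_mem _ e1 (Submodule.mem_sup_left hw₂)
    exact (Submodule.smul_mem_iff _ hb).1 this

end Groth.Agent.AVTate
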