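import Groth.Agent.AVTate.Descent
import Groth.Agent.AVTate.Eigen
import Groth.Agent.AVQuot.Commutant
import Groth.Agent.S8121
import Mathlib.LinearAlgebra.BilinearForm.TensorProduct

/-!
# The commutant of Frobenius at a split prime
-/

set_option autoImplicit false
set_option backward.isDefEq.respectTransparency false
set_option backward.isDefEq.respectTransparency.types false
set_option linter.style.haveILetI false
set_option linter.unusedSectionVars false
set_option synthInstance.maxHeartbeats 400000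
set_option maxHeartbeats 1000000

universe u

open CategoryTheory MonoidalCategory CartesianMonoidalCategory MonObj GrpObj AlgebraicGeometry
open scoped TensorProduct

noncomputable section

namespace Groth.Agent.AVTate

attribute [local instance] W7Cube.law AVDeg.overInst

variable {k Ω : Type u} [Field k] [Field Ω] [Algebra k Ω]
variable {X : Over (Spec (CommRingCat.of k))} [GrpObj X] [IsCommMonObj X] [IsProper X.hom] [GeometricallyIntegral X.hom]
variable {l : ℕ} [Fact l.Prime]

/-- The Tate module has twice the dimension as rank. -/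
theorem finrank_V [IsAlgClosed Ω] (hl : (l : k) ≠ 0) {g : ℕ} (hg : topologicalKrullDim X.left = (g : WithBot ℕ∞))
    [Module.Free ℤ_[l] (AbDual.TateMod X l (SGA7.pt (K := k) Ω))]
    [Module.Finite ℤ_[l] (AbDual.TateMod X l (SGA7.pt (K := k) Ω))] :
    Module.finrank ℚ_[l] (ℚ_[l] ⊗[ℤ_[l]] AbDual.TateMod X l (SGA7.pt (K := k) Ω)) = 2 * g := by
  obtain ⟨P, hP, hPd, -, hc⟩ := AVDeg.exists_charpoly_tate (Ω := Ω) (l := l) hl hg (1 : EndAV.End X)
  have h := LinearMap.charpoly_natDegree (EndAV.End.tateRep l (SGA7.pt (K := k) Ω) (1 : EndAV.End X))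
  rw [hc, hP.natDegree_map, hPd] at h
  rw [Module.finrank_baseChange, ← h]

/-- The rank of the lattice of a subspace. -/
theorem finrank_latticeOf [Module.Free ℤ_[l] (AbDual.TateMod X l (SGA7.pt (K := k) Ω))]
    [Module.Finite ℤ_[l] (AbDual.TateMod X l (SGA7.pt (K := k) Ω))]
    (W : Submodule ℚ_[l] (ℚ_[l] ⊗[ℤ_[l]] AbDual.TateMod X l (SGA7.pt (K := k) Ω))) :
    Module.finrank ℤ_[l] (AVQuot.latticeOf W) = Module.finrank ℚ_[l] W := by
  let L := AVQuot.latticeOf W
  let ι₁ := TensorProduct.mk ℤ_[l] ℚ_[l] (AbDual.TateMod X l (SGA7.pt (K := k) Ω)) 1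
  haveI : Module.Finite ℤ_[l] L := Module.IsNoetherian.finite _ _
  haveI : Module.Free ℤ_[l] L := Module.free_of_finite_type_torsion_free'
  have hinj : Function.Injective ι₁ := by
    intro a b h
    let B := Module.Free.chooseBasis ℤ_[l] (AbDual.TateMod X l (SGA7.pt (K := k) Ω))
    refine B.repr.injective (Finsupp.ext fun i => ?_)
    have h' := congrArg (fun z => (B.baseChange ℚ_[l]).repr z i) h
    simp only [ι₁, TensorProduct.mk_apply, Module.Basis.baseChange_repr_tmul] at h'
    exact (IsFractionRing.injective ℤ_[l] ℚ_[l]) (by simpa [Algebra.smul_def] using h')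
  let f : L →ₗ[ℤ_[l]] W.restrictScalars ℤ_[l] := (ι₁ ∘ₗ L.subtype).codRestrict _ fun z => z.2
  let b := Module.finBasis ℤ_[l] L
  have hf : Function.Injective f := fun a c h => Subtype.ext (hinj (congrArg Subtype.val h))
  let v : Fin (Module.finrank ℤ_[l] L) → ℚ_[l] ⊗[ℤ_[l]] AbDual.TateMod X l (SGA7.pt (K := k) Ω) :=
    fun i => (f (b i)).1
  have hli : LinearIndependent ℤ_[l] v :=
    ((b.linearIndependent.map' f (LinearMap.ker_eq_bot.2 hf)).map' (Submodule.subtype _) (Submodule.ker_subtype _))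
  rw [LinearIndependent.iff_fractionRing ℤ_[l] ℚ_[l]] at hli
  have hspan : Submodule.span ℚ_[l] (Set.range v) = W := by
    refine le_antisymm (Submodule.span_le.2 ?_) fun x hx => ?_
    · rintro _ ⟨i, rfl⟩; exact (f (b i)).2
    obtain ⟨d, z, hz⟩ : ∃ (d : ℕ) (z : AbDual.TateMod X l (SGA7.pt (K := k) Ω)), ((l : ℚ_[l]) ^ d) • x = ι₁ z := by
      clear hx
      induction x using TensorProduct.induction_on with
      | zero => exact ⟨0, 0, by rw [smul_zero, map_zero]⟩
      | tmul a z =>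
        obtain ⟨d, hd⟩ : ∃ d : ℕ, ‖((l : ℚ_[l]) ^ d) * a‖ ≤ 1 := by
          obtain ⟨d, hd⟩ := exists_nat_ge ‖a‖
          refine ⟨d, ?_⟩
          rw [norm_mul, norm_pow, Padic.norm_p, inv_pow, inv_mul_le_iff₀
            (pow_pos (Nat.cast_pos.2 (Fact.out : l.Prime).pos) d), _root_.mul_one]
          refine hd.trans ?_
          exact_mod_cast (Nat.lt_pow_self (Fact.out : l.Prime).one_lt).le
        let r : ℤ_[l] := ⟨_, hd⟩
        refine ⟨d, r • z, ?_⟩
        rw [map_smul]
        show _ = r • ((1 : ℚ_[l]) ⊗ₜ[ℤ_[l]] z)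
        rw [TensorProduct.smul_tmul', TensorProduct.smul_tmul', smul_eq_mul, Algebra.smul_def, _root_.mul_one]
        rfl
      | add a b ha hb =>
        obtain ⟨d₁, z₁, h₁⟩ := ha
        obtain ⟨d₂, z₂, h₂⟩ := hb
        refine ⟨d₁ + d₂, ((l : ℤ_[l]) ^ d₂) • z₁ + ((l : ℤ_[l]) ^ d₁) • z₂, ?_⟩
        rw [smul_add, map_add, map_smul, map_smul, ← h₁, ← h₂, ← algebraMap_smul ℚ_[l] ((l : ℤ_[l]) ^ d₂),
          ← algebraMap_smul ℚ_[l] ((l : ℤ_[l]) ^ d₁), map_pow, map_pow, map_natCast, smul_smul, smul_smul,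
          ← pow_add, ← pow_add, add_comm d₂ d₁]
    have hzL : z ∈ L := by
      show ι₁ z ∈ W
      rw [← hz]; exact W.smul_mem _ hx
    have hne : ((l : ℚ_[l]) ^ d) ≠ 0 := pow_ne_zero _ (Nat.cast_ne_zero.2 (Fact.out : l.Prime).ne_zero)
    rw [← Submodule.smul_mem_iff _ hne, hz,
      show ι₁ z = (f ⟨z, hzL⟩).1 from rfl, ← b.sum_repr ⟨z, hzL⟩,
      map_sum, Submodule.coe_sum]
    refine Submodule.sum_mem _ fun i _ => ?_
    rw [map_smul]
    show (b.repr ⟨z, hzL⟩ i) • v i ∈ _
    exact Submodule.smul_of_tower_mem _ _ (Submodule.subset_span ⟨i, rfl⟩)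
  conv_rhs => rw [← hspan]
  exact ((finrank_span_eq_card hli).trans (Fintype.card_fin _)).symm

/-- **Tate's theorem at a split prime.** -/
theorem commutant_split [Finite k] [IsAlgClosure k Ω] (hodd : Odd l) (hl : (l : k) ≠ 0)
    (πA : X ⟶ X) [IsMonHom πA] (hb : πA.left.base = 𝟙 _) (hle : ∀ U : X.left.Opens, U ≤ πA.left ⁻¹ᵁ U)
    (happ : ∀ (U : X.left.Opens) (s : Γ(X.left, U)), (πA.left.appLE U U (hle U)).hom s = s ^ Nat.card k)
    (hsplit : ((minpoly ℚ (EndAV.toEnd0 (EndAV.End.of πA))).map (algebraMap ℚ ℚ_[l])).Splits)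
    [Module.Free ℤ_[l] (AbDual.TateMod X l (SGA7.pt (K := k) Ω))]
    [Module.Finite ℤ_[l] (AbDual.TateMod X l (SGA7.pt (K := k) Ω))]
    (φ : Module.End ℚ_[l] (ℚ_[l] ⊗[ℤ_[l]] AbDual.TateMod X l (SGA7.pt (K := k) Ω)))
    (hφ : φ * (AbDual.tateMapₗ (l := l) (T := SGA7.pt (K := k) Ω) πA).baseChange ℚ_[l] =
      (AbDual.tateMapₗ (l := l) (T := SGA7.pt (K := k) Ω) πA).baseChange ℚ_[l] * φ) :
    φ ∈ Submodule.span ℚ_[l] {ψ : Module.End ℚ_[l] (ℚ_[l] ⊗[ℤ_[l]] AbDual.TateMod X l (SGA7.pt (K := k) Ω)) |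
          ∃ (f : X ⟶ X) (_ : IsMonHom f), ψ = (AbDual.tateMapₗ (l := l) (T := SGA7.pt (K := k) Ω) f).baseChange ℚ_[l]} := by
  haveI : IsAlgClosed Ω := IsAlgClosure.isAlgClosed k
  haveI : Nonempty X.left := ⟨η[X].left (IsLocalRing.closedPoint k)⟩
  obtain ⟨g, hg⟩ := AVDeg.exists_dim X
  set m := minpoly ℚ (EndAV.toEnd0 (EndAV.End.of πA)) with hmdef
  have hsq : Squarefree m := (AVDeg.frob_semisimple πA hb hle happ).2.2
  have hsep : (m.map (algebraMap ℚ ℚ_[l])).Separable := (PerfectField.separable_iff_squarefree.mpr hsq).map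
  set Tπ := AbDual.tateMapₗ (l := l) (T := SGA7.pt (K := k) Ω) πA with hTπ
  set P := Tπ.baseChange ℚ_[l] with hPdef
  have hann : Polynomial.aeval P (m.map (algebraMap ℚ ℚ_[l])) = 0 := by
    have h := AVDeg.ratRep_toEnd0 (l := l) Ω (EndAV.End.of πA)
    rw [show P = AVDeg.ratRep (l := l) Ω (EndAV.toEnd0 (EndAV.End.of πA)) from h.symm,
      Polynomial.aeval_map_algebraMap, Polynomial.aeval_algHom_apply, minpoly.aeval, map_zero]
  obtain ⟨σ, hσ, hπσ⟩ := AVTheta.exists_frobAut (k := k) (Ω := Ω)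
  have hcomp : ∀ z (j : ℕ), (AbDual.TateMod.component X l (SGA7.pt (K := k) Ω) j (Tπ z)).toMul =
      SGA7.galAct σ (AbDual.TateMod.component X l (SGA7.pt (K := k) Ω) j z).toMul := fun z j =>
    hπσ X πA hb hle happ _
  have hTinj : Function.Injective Tπ := by
    intro a b h
    refine AbDual.TateMod.ext fun j => Additive.toMul.injective ?_
    have h1 : SGA7.galAct σ (AbDual.TateMod.component X l (SGA7.pt (K := k) Ω) j a).toMul =
        SGA7.galAct σ (AbDual.TateMod.component X l (SGA7.pt (K := k) Ω) j b).toMul := by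
      rw [← hcomp, ← hcomp, h]
    have h2 := congrArg (SGA7.galAct σ⁻¹) h1
    simp only [SGA7.galAct, ← Category.assoc, ← specAut_mul', inv_mul_cancel, specAut_one', Category.id_comp] at h2
    exact h2
  have hPinj : Function.Injective P := by
    have := Module.Flat.lTensor_preserves_injective_linearMap (M := ℚ_[l]) Tπ hTinj
    exact fun a b h => this h
  -- the pairing
  obtain ⟨H, hH, ⟨eH⟩⟩ := Groth.Agent.S8121.result k X
  have hsym : W7Cube.pc (PicGrp.cls H hH.1) (𝟙 X)⁻¹ = PicGrp.cls H hH.1 := by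
    rw [W7Cube.pc, W7Cube.pull_cls _ _ hH.1]
    exact (PicGrp.cls_eq_cls_iff _ _).2 ⟨eH.symm⟩
  obtain ⟨E, hEalt, hEeps, hEσ⟩ := AVTheta.exists_pairing (X := X) Ω l hl (PicGrp.cls H hH.1) hsym
  let B : LinearMap.BilinForm ℚ_[l] (ℚ_[l] ⊗[ℤ_[l]] AbDual.TateMod X l (SGA7.pt (K := k) Ω)) :=
    LinearMap.BilinForm.baseChange ℚ_[l] E
  have hBt : ∀ a z b w, B (a ⊗ₜ z) (b ⊗ₜ w) = E z w • (a * b) := fun a z b w =>
    LinearMap.BilinForm.baseChange_tmul E a z b w
  have hEskew : ∀ z w, E z w = -E w z := fun z w => by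
    have := hEalt (z + w)
    simp only [map_add, LinearMap.add_apply, hEalt, zero_add, add_zero] at this
    exact eq_neg_of_add_eq_zero_right this
  have hBskew : ∀ x y, B x y + B y x = 0 := by
    intro x y
    induction x using TensorProduct.induction_on with
    | zero => simp
    | tmul a z =>
      induction y using TensorProduct.induction_on with
      | zero => simp
      | tmul b w => rw [hBt, hBt, hEskew z w, neg_smul, _root_.mul_comm b a, neg_add_cancel]
      | add p q hp hq =>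
        rw [map_add, map_add, LinearMap.add_apply, add_add_add_comm, hp, hq, add_zero]
    | add p q hp hq => rw [map_add, map_add, LinearMap.add_apply, add_add_add_comm, hp, hq, add_zero]
  have hBalt : ∀ x, B x x = 0 := fun x => by
    have := hBskew x x
    rwa [← two_mul, mul_eq_zero, or_iff_right two_ne_zero] at this
  have hBP : ∀ x y, B (P x) (P y) = (Nat.card k : ℚ_[l]) * B x y := by
    intro x y
    induction x using TensorProduct.induction_on with
    | zero => simp
    | tmul a z =>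
      induction y using TensorProduct.induction_on with
      | zero => simp
      | tmul b w =>
        rw [hPdef, LinearMap.baseChange_tmul, LinearMap.baseChange_tmul, hBt, hBt,
          hEσ σ (Nat.card k) hσ z w (Tπ z) (Tπ w) (hcomp z) (hcomp w), Algebra.smul_def, Algebra.smul_def, map_mul,
          map_natCast, _root_.mul_assoc]
      | add p q hp hq => simp only [map_add, hp, hq, mul_add]
    | add p q hp hq => simp only [map_add, LinearMap.add_apply, hp, hq, mul_add]
  -- maximal isotropic subspaces are images of endomorphisms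
  have hmax : ∀ W : Submodule ℚ_[l] (ℚ_[l] ⊗[ℤ_[l]] AbDual.TateMod X l (SGA7.pt (K := k) Ω)),
      (∀ x ∈ W, P x ∈ W) → (∀ x ∈ W, ∀ y ∈ W, B x y = 0) → Module.finrank ℚ_[l] W = g →
      ∃ u ∈ (AVQuot.ratRepL Ω l X).range, LinearMap.range u = W := by
    intro W hW hWi hWd
    have hLW : ∀ z ∈ AVQuot.latticeOf W, Tπ z ∈ AVQuot.latticeOf W := fun z hz => by
      have h := hW _ hz
      rwa [hPdef, TensorProduct.mk_apply, LinearMap.baseChange_tmul] at h
    have hstab : ∀ (τ : Ω ≃ₐ[k] Ω), ∀ z ∈ AVQuot.latticeOf W, ∀ j, ∃ w ∈ AVQuot.latticeOf W,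
        (AbDual.TateMod.component X l (SGA7.pt (K := k) Ω) j w).toMul =
          SGA7.galAct τ (AbDual.TateMod.component X l (SGA7.pt (K := k) Ω) j z).toMul := by
      intro τ z hz j
      obtain ⟨i, hi⟩ := exists_pow_galAct hσ τ (pow_ne_zero j (Fact.out : l.Prime).ne_zero)
        (AbDual.TateMod.component X l (SGA7.pt (K := k) Ω) j z).toMul (congrArg Additive.toMul (z.torsion j))
      rw [hi]
      clear hi
      induction i with
      | zero => exact ⟨z, hz, by rw [pow_zero, SGA7.galAct, specAut_one', Category.id_comp]⟩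
      | succ i ih =>
        obtain ⟨w, hw, e⟩ := ih
        refine ⟨Tπ w, hLW w hw, ?_⟩
        rw [hcomp, e, pow_succ', SGA7.galAct, SGA7.galAct, SGA7.galAct, specAut_mul', Category.assoc]
    have hsat : ∀ (n : ℕ) z, ((l : ℤ_[l]) ^ n) • z ∈ AVQuot.latticeOf W → z ∈ AVQuot.latticeOf W := by
      intro n z hz
      have hne : ((l : ℚ_[l]) ^ n) ≠ 0 := pow_ne_zero _ (Nat.cast_ne_zero.2 (Fact.out : l.Prime).ne_zero)
      refine (Submodule.smul_mem_iff W hne).1 ?_
      have h : (TensorProduct.mk ℤ_[l] ℚ_[l] _ 1) (((l : ℤ_[l]) ^ n) • z) ∈ W := hz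
      rwa [map_smul, ← algebraMap_smul ℚ_[l] ((l : ℤ_[l]) ^ n), map_pow, map_natCast] at h
    have hiso : ∀ z ∈ AVQuot.latticeOf W, ∀ w ∈ AVQuot.latticeOf W, E z w = 0 := by
      intro z hz w hw
      have h := hWi _ hz _ hw
      rw [TensorProduct.mk_apply, TensorProduct.mk_apply, hBt, _root_.mul_one, Algebra.smul_def, _root_.mul_one] at h
      exact IsFractionRing.injective ℤ_[l] ℚ_[l] (by rw [h, map_zero])
    obtain ⟨u, hu, hur⟩ := AVQuot.exists_end_of_subspace' hl X W hstab
      (finQuot_lagrangian hodd hl hg hH hsym E hEeps _ hsat ((finrank_latticeOf W).trans hWd) hiso)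
    rw [← AVQuot.range_ratRepL, Subalgebra.mem_toSubmodule] at hu
    exact ⟨u, hu, hur⟩
  -- conclusion
  haveI := AVQuot.isSemisimpleRing_range Ω (l := l) (X := X)
  rw [← AVQuot.range_ratRepL, Subalgebra.mem_toSubmodule]
  refine AVQuot.mem_of_commute_commutant _ φ fun c hc => ?_
  refine commute_of_lines P hsplit hsep hann c φ (fun x => LinearMap.congr_fun hφ x) fun x hx => ?_
  refine mem_line_of_isotropic P hsplit hsep hann B hBalt hBP hPinj (finrank_V hl hg) c ?_ x hx
  intro W hW hWi hWd y hy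
  obtain ⟨u, hu, rfl⟩ := hmax W hW hWi hWd
  obtain ⟨y', rfl⟩ := hy
  exact ⟨c y', LinearMap.congr_fun (hc u hu) y'⟩

end Groth.Agent.AVTate
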