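import Groth.Agent.AVTate.Isog
import Groth.Agent.AVTate.Split
import Groth.Agent.AVTheta.FrobPt
import Mathlib.RingTheory.Nakayama

/-!
Integral intertwiners of Tate modules give isogenies of degree prime to `l`.
-/

set_option autoImplicit false
set_option backward.isDefEq.respectTransparency false
set_option backward.isDefEq.respectTransparency.types false
set_option linter.style.haveILetI false
set_option linter.unusedSectionVars false
set_option synthInstance.maxHeartbeats 400000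
set_option maxHeartbeats 1000000

universe u

open CategoryTheory MonoidalCategory CartesianMonoidalCategory MonObj GrpObj AlgebraicGeometry
open scoped TensorProduct

noncomputable section

namespace Groth.Agent.AVTate

variable {k : Type u} (Ω : Type u) [Field k] [Field Ω] [Algebra k Ω] {l : ℕ} [Fact l.Prime]
variable {A B : Over (Spec (CommRingCat.of k))}
  [GrpObj A] [IsCommMonObj A] [IsProper A.hom] [GeometricallyIntegral A.hom]
  [GrpObj B] [IsCommMonObj B] [IsProper B.hom] [GeometricallyIntegral B.hom]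

/-- An intertwiner of Frobenius on Tate modules is approximated by a homomorphism inducing a bijection. -/
theorem exists_bijective_tateMap [Finite k] [IsAlgClosure k Ω] (hl : (l : k) ≠ 0)
    [Module.Finite ℤ_[l] (AbDual.TateMod B l (SGA7.pt (K := k) Ω))]
    [Module.Finite ℤ_[l] (AbDual.TateMod A l (SGA7.pt (K := k) Ω))]
    (πA : A ⟶ A) [IsMonHom πA] (hAb : πA.left.base = 𝟙 _) (hAle : ∀ U : A.left.Opens, U ≤ πA.left ⁻¹ᵁ U)
    (hAapp : ∀ (U : A.left.Opens) (s : Γ(A.left, U)), (πA.left.appLE U U (hAle U)).hom s = s ^ Nat.card k)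
    (πB : B ⟶ B) [IsMonHom πB] (hBb : πB.left.base = 𝟙 _) (hBle : ∀ U : B.left.Opens, U ≤ πB.left ⁻¹ᵁ U)
    (hBapp : ∀ (U : B.left.Opens) (s : Γ(B.left, U)), (πB.left.appLE U U (hBle U)).hom s = s ^ Nat.card k)
    (e : AbDual.TateMod A l (SGA7.pt (K := k) Ω) ≃ₗ[ℤ_[l]] AbDual.TateMod B l (SGA7.pt (K := k) Ω))
    (he : e.toLinearMap ∘ₗ AbDual.tateMapₗ (l := l) (T := SGA7.pt (K := k) Ω) πA =
      AbDual.tateMapₗ (l := l) (T := SGA7.pt (K := k) Ω) πB ∘ₗ e.toLinearMap) :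
    ∃ f : EndAV.Hom A B, Function.Bijective (EndAV.Hom.tateMap l (SGA7.pt (K := k) Ω) f) := by
  have hspan := mem_span_of_comm Ω hl πA hAb hAle hAapp πB hBb hBle hBapp e.toLinearMap he
  let T := EndAV.Hom.tateMap (A := A) (B := B) l (SGA7.pt (K := k) Ω)
  -- approximate modulo `l`
  obtain ⟨f, X, hX⟩ : ∃ (f : EndAV.Hom A B)
      (X : AbDual.TateMod A l (SGA7.pt (K := k) Ω) →ₗ[ℤ_[l]] AbDual.TateMod B l (SGA7.pt (K := k) Ω)),
      e.toLinearMap = T f + (l : ℤ_[l]) • X := by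
    suffices ∀ u ∈ Submodule.span ℤ_[l] (Set.range T), ∃ (f : EndAV.Hom A B)
        (X : AbDual.TateMod A l (SGA7.pt (K := k) Ω) →ₗ[ℤ_[l]] AbDual.TateMod B l (SGA7.pt (K := k) Ω)),
        u = T f + (l : ℤ_[l]) • X from this _ hspan
    intro u hu
    induction hu using Submodule.span_induction with
    | mem y hy =>
      obtain ⟨f, rfl⟩ := hy
      exact ⟨f, 0, by rw [smul_zero, add_zero]⟩
    | zero => exact ⟨0, 0, by rw [map_zero, smul_zero, add_zero]⟩
    | add a b _ _ ha hb =>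
      obtain ⟨f, X, rfl⟩ := ha
      obtain ⟨g, Y, rfl⟩ := hb
      exact ⟨f + g, X + Y, by rw [map_add, smul_add]; abel⟩
    | smul c a _ ha =>
      obtain ⟨f, X, rfl⟩ := ha
      obtain ⟨d, hd⟩ : (l : ℤ_[l]) ∣ c - (PadicInt.appr c 1 : ℤ_[l]) := by
        simpa [Ideal.mem_span_singleton] using PadicInt.appr_spec 1 c
      refine ⟨(PadicInt.appr c 1) • f, d • (T f) + c • X, ?_⟩
      rw [map_nsmul, ← Nat.cast_smul_eq_nsmul ℤ_[l]]
      generalize (PadicInt.appr c 1 : ℤ_[l]) = a at hd ⊢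
      rw [sub_eq_iff_eq_add.1 hd]
      module
  refine ⟨f, ?_⟩
  have hsurj : Function.Surjective (T f) := by
    rw [← LinearMap.range_eq_top, eq_top_iff]
    refine Submodule.le_of_le_smul_of_le_jacobson_bot (I := IsLocalRing.maximalIdeal ℤ_[l]) Module.Finite.fg_top
      (IsLocalRing.maximalIdeal_le_jacobson _) fun y _ => ?_
    obtain ⟨x, rfl⟩ := e.surjective y
    refine Submodule.mem_sup.2 ⟨T f x, LinearMap.mem_range_self _ _, (l : ℤ_[l]) • X x,
      Submodule.smul_mem_smul ?_ trivial, ?_⟩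
    · rw [PadicInt.maximalIdeal_eq_span_p]
      exact Ideal.mem_span_singleton_self _
    · exact (LinearMap.congr_fun hX x).symm
  have hinj : Function.Injective (e.symm.toLinearMap ∘ₗ T f) :=
    OrzechProperty.injective_of_surjective_endomorphism _ (e.symm.surjective.comp hsurj)
  exact ⟨fun x y hxy => hinj (congrArg e.symm hxy), hsurj⟩

/-- Bijectivity on one Tate module gives an isogeny prime to `l`. -/
theorem exists_isog_coprime_of_bijective [IsAlgClosed Ω] (hl : (l : k) ≠ 0)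
    [Module.Free ℤ_[l] (AbDual.TateMod A l (SGA7.pt (K := k) Ω))] [Module.Finite ℤ_[l] (AbDual.TateMod A l (SGA7.pt (K := k) Ω))]
    [Module.Free ℤ_[l] (AbDual.TateMod B l (SGA7.pt (K := k) Ω))] [Module.Finite ℤ_[l] (AbDual.TateMod B l (SGA7.pt (K := k) Ω))]
    (f : EndAV.Hom A B) (hf : Function.Bijective (EndAV.Hom.tateMap l (SGA7.pt (K := k) Ω) f)) :
    ∃ (g : EndAV.Hom B A) (N : ℕ), 0 < N ∧ ¬ l ∣ N ∧
      f ≫ g = (N : ℤ) • 𝟙 (CommGrp.mk A) ∧ g ≫ f = (N : ℤ) • 𝟙 (CommGrp.mk B) := by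
  haveI : IsFinite f.toHom.left := by
    refine (AVDeg.isFinite_bcMap_iff Ω f.toHom).1 ?_
    refine AVDeg.isFinite_of_injective_tate (l := l) (AVDeg.ne_zero_bc Ω hl) (AVDeg.homBC Ω f).toHom ?_
    have hcomp : (AbDual.tateMapₗ (l := l) (T := AVDeg.one' Ω) (AVDeg.homBC Ω f).toHom : _ → _) =
        (AVDeg.tateBC (A := B) (l := l) Ω) ∘ AbDual.tateMapₗ (T := SGA7.pt (K := k) Ω) f.toHom ∘
          (AVDeg.tateBC (A := A) (l := l) Ω).symm := funext fun y => by
      refine Eq.trans ?_ (AVDeg.tateBC_tateMap Ω f ((AVDeg.tateBC Ω).symm y)).symm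
      rw [LinearEquiv.apply_symm_apply]
      rfl
    rw [hcomp]
    exact (LinearEquiv.injective _).comp (hf.1.comp (LinearEquiv.injective _))
  haveI : Nonempty A.left := ⟨η[A].left (IsLocalRing.closedPoint k)⟩
  haveI : Nonempty B.left := ⟨η[B].left (IsLocalRing.closedPoint k)⟩
  obtain ⟨gA, hgA⟩ := AVDeg.exists_dim A
  obtain ⟨gB, hgB⟩ := AVDeg.exists_dim B
  have hdim : topologicalKrullDim A.left = topologicalKrullDim B.left := by
    have h := ((LinearEquiv.ofBijective _ hf).baseChange ℤ_[l] ℚ_[l]).finrank_eq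
    rw [finrank_V (X := A) (Ω := Ω) hl hgA, finrank_V (X := B) (Ω := Ω) hl hgB] at h
    rw [hgA, hgB, show gA = gB by omega]
  haveI : IsIntegral A.left := GeometricallyIntegral.isIntegral_of_subsingleton A.hom
  haveI : IsIntegral B.left := GeometricallyIntegral.isIntegral_of_subsingleton B.hom
  haveI : Surjective f.toHom.left := GrpField.surjective_of_isFinite f.toHom hdim
  obtain ⟨v, hv, d, hd, h1, h2⟩ := AgIsog.exists_quasiInverse_of_isFinite f.toHom
  haveI := hv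
  obtain ⟨n, N, hN, hdN⟩ := Nat.exists_eq_pow_mul_and_not_dvd hd l (Fact.out : l.Prime).ne_one
  have g1 : f ≫ EndAV.Hom.of v = (d : ℤ) • 𝟙 (CommGrp.mk A) := EndAV.Hom.ext (by
    rw [natCast_zsmul, EndAV.Hom.toHom_comp, EndAV.Hom.toHom_nsmul, EndAV.Hom.toHom_of, EndAV.Hom.toHom_id, h1])
  have g2 : EndAV.Hom.of v ≫ f = (d : ℤ) • 𝟙 (CommGrp.mk B) := EndAV.Hom.ext (by
    rw [natCast_zsmul, EndAV.Hom.toHom_comp, EndAV.Hom.toHom_nsmul, EndAV.Hom.toHom_of, EndAV.Hom.toHom_id, h2])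
  -- `v` is divisible by `l ^ n`
  let e := LinearEquiv.ofBijective _ hf
  obtain ⟨ψ, hψ⟩ := AVDeg.exists_eq_nsmul_of_tate Ω hl (EndAV.Hom.of v) n ((N : ℤ_[l]) • e.symm.toLinearMap)
    (LinearMap.ext fun y => by
      obtain ⟨x, rfl⟩ := hf.2 y
      have hx : EndAV.Hom.tateMap l (SGA7.pt (K := k) Ω) (EndAV.Hom.of v)
          (EndAV.Hom.tateMap l (SGA7.pt (K := k) Ω) f x) = (d : ℤ_[l]) • x := by
        refine ((AVQuot.tateMapₗ_comp f.toHom v x).symm.trans ?_)
        show EndAV.Hom.tateMap l (SGA7.pt (K := k) Ω) (f ≫ EndAV.Hom.of v) x = _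
        rw [g1, natCast_zsmul, map_nsmul, LinearMap.smul_apply, Nat.cast_smul_eq_nsmul]
        congr 1
        try exact LinearMap.congr_fun (map_one (EndAV.End.tateRep (A := A) l (SGA7.pt (K := k) Ω))) x
      rw [hx, LinearMap.smul_apply, LinearMap.smul_apply,
        show e.symm.toLinearMap (EndAV.Hom.tateMap l (SGA7.pt (K := k) Ω) f x) = x from e.symm_apply_apply x,
        smul_smul, hdN, Nat.cast_mul, Nat.cast_pow])
  obtain ⟨hfA, -, -⟩ := AVDeg.hom_lattice (A := A) (B := A) hgA hgA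
  obtain ⟨hfB, -, -⟩ := AVDeg.hom_lattice (A := B) (B := B) hgB hgB
  haveI := hfA
  haveI := hfB
  have hln : ((l ^ n : ℕ) : ℤ) ≠ 0 := Int.natCast_ne_zero.2 (pow_ne_zero _ (Fact.out : l.Prime).ne_zero)
  refine ⟨ψ, N, Nat.pos_of_ne_zero fun h0 => hN (h0 ▸ dvd_zero l), hN, smul_right_injective _ hln ?_,
    smul_right_injective _ hln ?_⟩
  · show ((l ^ n : ℕ) : ℤ) • (f ≫ ψ) = ((l ^ n : ℕ) : ℤ) • ((N : ℤ) • _)
    rw [← Preadditive.comp_zsmul, natCast_zsmul, ← hψ, g1, smul_smul, hdN, Nat.cast_mul]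
  · show ((l ^ n : ℕ) : ℤ) • (ψ ≫ f) = ((l ^ n : ℕ) : ℤ) • ((N : ℤ) • _)
    rw [← Preadditive.zsmul_comp, natCast_zsmul, ← hψ, g2, smul_smul, hdN, Nat.cast_mul]

end Groth.Agent.AVTate
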