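import Groth.Agent.AVTate.Main
import Groth.Agent.LinAlg.SemisimpleHom
import Groth.Agent.GrpField.Isogeny
import Groth.Agent.AgIsog.ProdAV
import Groth.Agent.AVDeg.FiniteKer

/-!
# Isogenies from Tate modules; conjugacy of semisimple endomorphisms
-/

set_option autoImplicit false
set_option backward.isDefEq.respectTransparency false
set_option backward.isDefEq.respectTransparency.types false
set_option linter.style.haveILetI false
set_option linter.unusedSectionVars false
set_option synthInstance.maxHeartbeats 400000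
set_option maxHeartbeats 1000000

universe u

open CategoryTheory MonoidalCategory CartesianMonoidalCategory MonObj GrpObj AlgebraicGeometry
open scoped TensorProduct

noncomputable section

namespace Groth.Agent.AVTate

section LinAlg

open LinAlg.SemisimpleHom Polynomial

/-- Semisimple endomorphisms with the same characteristic polynomial are conjugate. -/
theorem exists_conj_of_charpoly_eq {K : Type*} [Field K] {V W : Type*} [AddCommGroup V] [Module K V]
    [FiniteDimensional K V] [AddCommGroup W] [Module K W] [FiniteDimensional K W]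
    (f : Module.End K V) (g : Module.End K W) (hf : f.IsSemisimple) (hg : g.IsSemisimple)
    (h : f.charpoly = g.charpoly) :
    ∃ e : V ≃ₗ[K] W, (e : V →ₗ[K] W) ∘ₗ f = g ∘ₗ (e : V →ₗ[K] W) := by
  classical
  haveI : IsSemisimpleModule K[X] (Module.AEval' f) := hf
  haveI : IsSemisimpleModule K[X] (Module.AEval' g) := hg
  obtain ⟨n, P, e₁, hP, hPi⟩ := exists_decomp (K := K) (Module.AEval' f)
  obtain ⟨m, P', e₂, hP', hPi'⟩ := exists_decomp (K := K) (Module.AEval' g)
  haveI : ∀ i, Module.Finite K (Q (P i)) := fun i => finite_Q (hP i)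
  haveI : ∀ i, Module.Finite K (Q (P' i)) := fun i => finite_Q (hP' i)
  rw [← Xop_AEval f, ← Xop_AEval g, ← charpoly_congr e₁, ← charpoly_congr e₂,
    charpoly_pi_Q n P hP, charpoly_pi_Q m P' hP'] at h
  have hm := normalizedFactors_prod P hP hPi
  rw [h, normalizedFactors_prod P' hP' hPi'] at hm
  have hfib : ∀ x, {i // P i = x} ≃ {j // P' j = x} := fun x => Fintype.equivOfCardEq (by
    have hc := congrArg (Multiset.count x) hm
    rw [Multiset.count_map, Multiset.count_map, ← Finset.filter_val, ← Finset.filter_val,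
      Finset.card_val, Finset.card_val] at hc
    rw [Fintype.card_subtype, Fintype.card_subtype]
    simpa only [eq_comm] using hc.symm)
  let s : Fin n ≃ Fin m := Equiv.ofFiberEquiv hfib
  have hs : ∀ i, P' (s i) = P i := fun i => Equiv.ofFiberEquiv_map hfib i
  let eQ : (∀ i, Q (P i)) ≃ₗ[K[X]] ∀ j, Q (P' j) :=
    (LinearEquiv.piCongrRight fun i => Submodule.quotEquivOfEq _ _ (by rw [hs i])).trans
      (LinearEquiv.piCongrLeft K[X] (fun j => Q (P' j)) s)
  let E : Module.AEval' f ≃ₗ[K[X]] Module.AEval' g := e₁.trans (eQ.trans e₂.symm)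
  refine ⟨(Module.AEval'.of f).trans ((E.restrictScalars K).trans (Module.AEval'.of g).symm),
    LinearMap.ext fun v => ?_⟩
  show (Module.AEval'.of g).symm (E (Module.AEval'.of f (f v))) =
    g ((Module.AEval'.of g).symm (E (Module.AEval'.of f v)))
  rw [show Module.AEval'.of f (f v) = (X : K[X]) • Module.AEval'.of f v from
    (Module.AEval.X_smul_of f v).symm, map_smul]
  exact Module.AEval.of_symm_X_smul g _

/-- A map between scalar extensions is, up to a scalar, a scalar extension. -/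
theorem exists_smul_eq_baseChange {R K : Type*} [CommRing R] [IsDomain R] [Field K] [Algebra R K]
    [IsFractionRing R K] {N M : Type*} [AddCommGroup N] [Module R N] [Module.Free R N] [Module.Finite R N]
    [AddCommGroup M] [Module R M] (e : (K ⊗[R] N) →ₗ[K] (K ⊗[R] M)) :
    ∃ r : R, r ≠ 0 ∧ ∃ u : N →ₗ[R] M, algebraMap R K r • e = u.baseChange K := by
  classical
  let B := Module.Free.chooseBasis R N
  have h1 : ∀ y : K ⊗[R] M, ∃ r : R, r ≠ 0 ∧ ∃ x : M, r • y = 1 ⊗ₜ x := by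
    intro y
    induction y using TensorProduct.induction_on with
    | zero => exact ⟨1, one_ne_zero, 0, by simp⟩
    | tmul q x =>
      obtain ⟨a, r, hr, rfl⟩ := IsFractionRing.div_surjective R q
      refine ⟨r, nonZeroDivisors.ne_zero hr, a • x, ?_⟩
      rw [TensorProduct.smul_tmul', Algebra.smul_def, ← TensorProduct.smul_tmul, Algebra.smul_def,
        _root_.mul_one, mul_div_cancel₀ _ ((map_ne_zero_iff _ (IsFractionRing.injective R K)).mpr
          (nonZeroDivisors.ne_zero hr))]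
    | add y z hy hz =>
      obtain ⟨r, hr, x, hx⟩ := hy
      obtain ⟨s, hs, w, hw⟩ := hz
      refine ⟨r * s, mul_ne_zero hr hs, s • x + r • w, ?_⟩
      rw [smul_add, TensorProduct.tmul_add, TensorProduct.tmul_smul, TensorProduct.tmul_smul, ← hx, ← hw,
        smul_smul, smul_smul, mul_comm r s]
  choose r hr x hx using fun i => h1 (e ((1 : K) ⊗ₜ[R] B i))
  refine ⟨∏ i, r i, Finset.prod_ne_zero_iff.2 fun i _ => hr i,
    B.constr R fun i => (∏ j ∈ Finset.univ.erase i, r j) • x i, ?_⟩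
  refine (B.baseChange K).ext fun i => ?_
  rw [Module.Basis.baseChange_apply, LinearMap.baseChange_tmul, Module.Basis.constr_basis, LinearMap.smul_apply,
    TensorProduct.tmul_smul, ← hx, smul_smul, algebraMap_smul,
    Finset.prod_erase_mul _ _ (Finset.mem_univ i)]

end LinAlg

variable {k : Type u} (Ω : Type u) [Field k] [Field Ω] [Algebra k Ω]
variable {A B : Over (Spec (CommRingCat.of k))}
  [GrpObj A] [IsCommMonObj A] [IsProper A.hom] [GeometricallyIntegral A.hom]
  [GrpObj B] [IsCommMonObj B] [IsProper B.hom] [GeometricallyIntegral B.hom]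
variable {l : ℕ} [Fact l.Prime]

/-- An isogeny induces an isomorphism of rational Tate modules. -/
theorem bijective_of_isog (f : A ⟶ B) [IsMonHom f] (g : B ⟶ A) [IsMonHom g] {n : ℕ} (hn : 0 < n)
    (h1 : f ≫ g = (𝟙 A) ^ n) (h2 : g ≫ f = (𝟙 B) ^ n) :
    Function.Bijective ((AbDual.tateMapₗ (l := l) (T := SGA7.pt (K := k) Ω) f).baseChange ℚ_[l]) := by
  have e1 : (AbDual.tateMapₗ (l := l) (T := SGA7.pt (K := k) Ω) g) ∘ₗ AbDual.tateMapₗ f =
      (n : ℤ_[l]) • LinearMap.id := LinearMap.ext fun z =>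
    (congrArg (fun w : _ →ₗ[ℤ_[l]] _ => w z) (AVQuot.tateMapₗ_comp' f g).symm).trans
      (AVQuot.tateMapₗ_pow_id _ n h1 z)
  have e2 : (AbDual.tateMapₗ (l := l) (T := SGA7.pt (K := k) Ω) f) ∘ₗ AbDual.tateMapₗ g =
      (n : ℤ_[l]) • LinearMap.id := LinearMap.ext fun z =>
    (congrArg (fun w : _ →ₗ[ℤ_[l]] _ => w z) (AVQuot.tateMapₗ_comp' g f).symm).trans
      (AVQuot.tateMapₗ_pow_id _ n h2 z)
  have hn' : (n : ℚ_[l]) ≠ 0 := Nat.cast_ne_zero.2 hn.ne'
  have b1 := congrArg (LinearMap.baseChange ℚ_[l]) e1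
  have b2 := congrArg (LinearMap.baseChange ℚ_[l]) e2
  rw [LinearMap.baseChange_comp, LinearMap.baseChange_smul, LinearMap.baseChange_id,
    ← algebraMap_smul ℚ_[l] (n : ℤ_[l]), map_natCast] at b1 b2
  refine ⟨fun a b h => ?_, fun y => ⟨(n : ℚ_[l])⁻¹ • (AbDual.tateMapₗ g).baseChange ℚ_[l] y, ?_⟩⟩
  · exact smul_right_injective _ hn' ((LinearMap.congr_fun b1 a).symm.trans
      ((congrArg ((AbDual.tateMapₗ g).baseChange ℚ_[l]) h).trans (LinearMap.congr_fun b1 b)))
  · rw [map_smul]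
    exact (congrArg ((n : ℚ_[l])⁻¹ • ·) (LinearMap.congr_fun b2 y)).trans (inv_smul_smul₀ hn' y)

/-- An intertwiner of Frobenius on rational Tate modules gives an isogeny. -/
theorem exists_isog_of_intertwiner [Finite k] [IsAlgClosure k Ω] (hl : (l : k) ≠ 0)
    (πA : A ⟶ A) [IsMonHom πA] (hAb : πA.left.base = 𝟙 _) (hAle : ∀ U : A.left.Opens, U ≤ πA.left ⁻¹ᵁ U)
    (hAapp : ∀ (U : A.left.Opens) (s : Γ(A.left, U)), (πA.left.appLE U U (hAle U)).hom s = s ^ Nat.card k)
    (πB : B ⟶ B) [IsMonHom πB] (hBb : πB.left.base = 𝟙 _) (hBle : ∀ U : B.left.Opens, U ≤ πB.left ⁻¹ᵁ U)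
    (hBapp : ∀ (U : B.left.Opens) (s : Γ(B.left, U)), (πB.left.appLE U U (hBle U)).hom s = s ^ Nat.card k)
    (e : (ℚ_[l] ⊗[ℤ_[l]] AbDual.TateMod A l (SGA7.pt (K := k) Ω)) ≃ₗ[ℚ_[l]]
      (ℚ_[l] ⊗[ℤ_[l]] AbDual.TateMod B l (SGA7.pt (K := k) Ω)))
    (he : e.toLinearMap ∘ₗ (AbDual.tateMapₗ (l := l) (T := SGA7.pt (K := k) Ω) πA).baseChange ℚ_[l] =
      (AbDual.tateMapₗ (l := l) (T := SGA7.pt (K := k) Ω) πB).baseChange ℚ_[l] ∘ₗ e.toLinearMap) :
    ∃ (u : A ⟶ B) (_ : IsMonHom u) (v : B ⟶ A) (_ : IsMonHom v) (n : ℕ), 0 < n ∧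
      u ≫ v = (𝟙 A) ^ n ∧ v ≫ u = (𝟙 B) ^ n := by
  haveI : IsAlgClosed Ω := IsAlgClosure.isAlgClosed k
  obtain ⟨hfA, hrA⟩ := tate_finite_free (X := A) Ω (l := l) hl
  obtain ⟨hfB, hrB⟩ := tate_finite_free (X := B) Ω (l := l) hl
  haveI := hfA
  haveI := hrA
  haveI := hfB
  haveI := hrB
  obtain ⟨r, hr, u, hu⟩ := exists_smul_eq_baseChange (R := ℤ_[l]) e.toLinearMap
  have hr' : algebraMap ℤ_[l] ℚ_[l] r ≠ 0 := (map_ne_zero_iff _ (IsFractionRing.injective _ _)).2 hr
  have hcomm : u ∘ₗ AbDual.tateMapₗ (l := l) (T := SGA7.pt (K := k) Ω) πA =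
      AbDual.tateMapₗ (l := l) (T := SGA7.pt (K := k) Ω) πB ∘ₗ u := by
    refine baseChange_injective (l := l) ?_
    rw [LinearMap.baseChange_comp, LinearMap.baseChange_comp, ← hu, LinearMap.smul_comp, LinearMap.comp_smul, he]
  have hspan := mem_span_of_comm Ω hl πA hAb hAle hAapp πB hBb hBle hBapp u hcomm
  -- a basis of `Hom`
  haveI : Nonempty A.left := ⟨η[A].left (IsLocalRing.closedPoint k)⟩
  haveI : Nonempty B.left := ⟨η[B].left (IsLocalRing.closedPoint k)⟩
  obtain ⟨g, hg⟩ := AVDeg.exists_dim A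
  obtain ⟨g', hg'⟩ := AVDeg.exists_dim B
  obtain ⟨hfree, hfin, -⟩ := AVDeg.hom_lattice (A := A) (B := B) hg hg'
  haveI := hfree
  haveI := hfin
  let H := Module.finBasis ℤ (EndAV.Hom A B)
  have hspan' : u ∈ Submodule.span ℤ_[l]
      (Set.range fun i => EndAV.Hom.tateMap l (SGA7.pt (K := k) Ω) (H i)) := by
    refine Submodule.span_le.2 ?_ hspan
    rintro _ ⟨f, rfl⟩
    show EndAV.Hom.tateMap l (SGA7.pt (K := k) Ω) f ∈ _
    rw [← H.sum_repr f, map_sum]
    exact Submodule.sum_mem _ fun i _ => by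
      rw [map_zsmul]
      exact zsmul_mem (Submodule.subset_span (Set.mem_range_self i)) _
  obtain ⟨c, hc⟩ := (Submodule.mem_span_range_iff_exists_fun _).1 hspan'
  -- determinant
  classical
  let bV := Module.Free.chooseBasis ℚ_[l] (ℚ_[l] ⊗[ℤ_[l]] AbDual.TateMod A l (SGA7.pt (K := k) Ω))
  let φ : Fin (Module.finrank ℤ (EndAV.Hom A B)) → Module.End ℚ_[l] (ℚ_[l] ⊗[ℤ_[l]] AbDual.TateMod A l (SGA7.pt (K := k) Ω)) := fun i =>
    e.symm.toLinearMap ∘ₗ (EndAV.Hom.tateMap l (SGA7.pt (K := k) Ω) (H i)).baseChange ℚ_[l]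
  let M := fun i => LinearMap.toMatrix bV bV (φ i)
  let P : MvPolynomial (Fin (Module.finrank ℤ (EndAV.Hom A B))) ℚ_[l] := (∑ i, (MvPolynomial.X i : MvPolynomial (Fin (Module.finrank ℤ (EndAV.Hom A B))) ℚ_[l]) • (M i).map MvPolynomial.C).det
  have heval : ∀ a, MvPolynomial.eval a P = LinearMap.det (∑ i, a i • φ i) := by
    intro a
    rw [← LinearMap.det_toMatrix bV, map_sum, RingHom.map_det]
    refine congrArg Matrix.det (Matrix.ext fun x y => ?_)
    simp [Matrix.sum_apply, M]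
  have hid : (∑ i, algebraMap ℤ_[l] ℚ_[l] (c i) • φ i) = algebraMap ℤ_[l] ℚ_[l] r • LinearMap.id := by
    have h := congrArg (fun w : _ →ₗ[ℤ_[l]] _ => e.symm.toLinearMap ∘ₗ w.baseChange ℚ_[l]) hc
    simp only [← hu, LinearMap.comp_smul] at h
    refine Eq.trans ?_ (h.trans (by rw [LinearEquiv.comp_coe, LinearEquiv.self_trans_symm]; rfl))
    refine LinearMap.ext fun x => ?_
    simp only [LinearMap.sum_apply, LinearMap.smul_apply, LinearMap.comp_apply, φ, ← map_smul, ← map_sum]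
    congr 1
    rw [show (∑ i, c i • EndAV.Hom.tateMap l (SGA7.pt (K := k) Ω) (H i)).baseChange ℚ_[l] =
      ∑ i, (c i • EndAV.Hom.tateMap l (SGA7.pt (K := k) Ω) (H i)).baseChange ℚ_[l] from
        map_sum (LinearMap.baseChangeHom ℤ_[l] ℚ_[l] _ _) _ _, LinearMap.sum_apply]
    simp [LinearMap.baseChange_smul]
    exact Finset.sum_congr rfl fun i _ => algebraMap_smul ℚ_[l] (c i) _
  have hP : P ≠ 0 := by
    intro h0
    have h := heval fun i => algebraMap ℤ_[l] ℚ_[l] (c i)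
    rw [h0, map_zero, hid, LinearMap.det_smul, LinearMap.det_id, _root_.mul_one] at h
    exact pow_ne_zero _ hr' h.symm
  obtain ⟨a, ha⟩ : ∃ a : Fin (Module.finrank ℤ (EndAV.Hom A B)) → ℤ, MvPolynomial.eval (fun i => (a i : ℚ_[l])) P ≠ 0 := by
    by_contra hno
    push Not at hno
    refine hP (MvPolynomial.funext_set (fun _ => Set.range ((↑) : ℤ → ℚ_[l]))
      (fun _ => Set.infinite_range_of_injective Int.cast_injective) fun x hx => ?_)
    choose a ha using fun i => hx i (Set.mem_univ i)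
    rw [map_zero, ← show (fun i => (a i : ℚ_[l])) = x from funext ha]
    exact hno a
  let f : EndAV.Hom A B := ∑ i, a i • H i
  have hTf : (EndAV.Hom.tateMap l (SGA7.pt (K := k) Ω) f).baseChange ℚ_[l] =
      e.toLinearMap ∘ₗ ∑ i, (a i : ℚ_[l]) • φ i := by
    refine LinearMap.ext fun x => ?_
    simp only [f, φ, map_sum, map_zsmul, LinearMap.sum_apply, LinearMap.smul_apply, LinearMap.comp_apply,
      LinearEquiv.coe_coe, map_smul, LinearEquiv.apply_symm_apply]
    rw [show (∑ i, a i • EndAV.Hom.tateMap l (SGA7.pt (K := k) Ω) (H i)).baseChange ℚ_[l] =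
      ∑ i, a i • (EndAV.Hom.tateMap l (SGA7.pt (K := k) Ω) (H i)).baseChange ℚ_[l] from
        (map_sum (LinearMap.baseChangeHom ℤ_[l] ℚ_[l] _ _) _ _).trans
          (Finset.sum_congr rfl fun i _ => map_zsmul (LinearMap.baseChangeHom ℤ_[l] ℚ_[l] _ _) _ _),
      LinearMap.sum_apply]
    exact Finset.sum_congr rfl fun i _ => by rw [LinearMap.smul_apply, Int.cast_smul_eq_zsmul]
  have hinjV : Function.Injective ((EndAV.Hom.tateMap l (SGA7.pt (K := k) Ω) f).baseChange ℚ_[l]) := by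
    rw [hTf]
    refine e.injective.comp (LinearMap.ker_eq_bot.1 ?_)
    by_contra hk
    exact ha ((heval _).trans (LinearMap.det_eq_zero_iff_ker_ne_bot.2 hk))
  have hinjT : Function.Injective (AbDual.tateMapₗ (l := l) (T := SGA7.pt (K := k) Ω) f.toHom) := by
    intro x y hxy
    have h : (1 : ℚ_[l]) ⊗ₜ[ℤ_[l]] x = (1 : ℚ_[l]) ⊗ₜ[ℤ_[l]] y :=
      hinjV (congrArg ((1 : ℚ_[l]) ⊗ₜ[ℤ_[l]] ·) hxy)
    have h2 := Module.Flat.rTensor_preserves_injective_linearMap (M := AbDual.TateMod A l (SGA7.pt (K := k) Ω))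
      (Algebra.linearMap ℤ_[l] ℚ_[l]) (IsFractionRing.injective ℤ_[l] ℚ_[l])
    exact (TensorProduct.lid ℤ_[l] _).symm.injective (h2 (by simpa using h))
  haveI : IsFinite f.toHom.left := by
    refine (AVDeg.isFinite_bcMap_iff Ω f.toHom).1 ?_
    refine AVDeg.isFinite_of_injective_tate (l := l) (AVDeg.ne_zero_bc Ω hl) (AVDeg.homBC Ω f).toHom ?_
    have hcomp : (AbDual.tateMapₗ (l := l) (T := AVDeg.one' Ω) (AVDeg.homBC Ω f).toHom : _ → _) =
        (AVDeg.tateBC (A := B) (l := l) Ω) ∘ AbDual.tateMapₗ (T := SGA7.pt (K := k) Ω) f.toHom ∘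
          (AVDeg.tateBC (A := A) (l := l) Ω).symm := funext fun y => by
      refine Eq.trans ?_ (AVDeg.tateBC_tateMap Ω f ((AVDeg.tateBC Ω).symm y)).symm
      rw [LinearEquiv.apply_symm_apply]
      rfl
    rw [hcomp]
    exact (LinearEquiv.injective _).comp (hinjT.comp (LinearEquiv.injective _))
  have hdim : topologicalKrullDim A.left = topologicalKrullDim B.left := by
    have h := e.finrank_eq
    rw [finrank_V hl hg, finrank_V hl hg'] at h
    rw [hg, hg', show g = g' by omega]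
  haveI : IsIntegral A.left := GeometricallyIntegral.isIntegral_of_subsingleton A.hom
  haveI : IsIntegral B.left := GeometricallyIntegral.isIntegral_of_subsingleton B.hom
  haveI : Surjective f.toHom.left := GrpField.surjective_of_isFinite f.toHom hdim
  obtain ⟨v, hv, d, hd, h1, h2⟩ := AgIsog.exists_quasiInverse_of_isFinite f.toHom
  exact ⟨f.toHom, inferInstance, v, hv, d, Nat.pos_of_ne_zero hd, h1, h2⟩

/-- **Isogenous iff the rational Tate modules are isomorphic, compatibly with Frobenius.** -/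
theorem isog_iff_charpoly [Finite k] [IsAlgClosure k Ω] (hl : (l : k) ≠ 0)
    [Module.Free ℤ_[l] (AbDual.TateMod A l (SGA7.pt (K := k) Ω))] [Module.Finite ℤ_[l] (AbDual.TateMod A l (SGA7.pt (K := k) Ω))]
    [Module.Free ℤ_[l] (AbDual.TateMod B l (SGA7.pt (K := k) Ω))] [Module.Finite ℤ_[l] (AbDual.TateMod B l (SGA7.pt (K := k) Ω))]
    (πA : A ⟶ A) [IsMonHom πA] (hAb : πA.left.base = 𝟙 _) (hAle : ∀ U : A.left.Opens, U ≤ πA.left ⁻¹ᵁ U)
    (hAapp : ∀ (U : A.left.Opens) (s : Γ(A.left, U)), (πA.left.appLE U U (hAle U)).hom s = s ^ Nat.card k)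
    (πB : B ⟶ B) [IsMonHom πB] (hBb : πB.left.base = 𝟙 _) (hBle : ∀ U : B.left.Opens, U ≤ πB.left ⁻¹ᵁ U)
    (hBapp : ∀ (U : B.left.Opens) (s : Γ(B.left, U)), (πB.left.appLE U U (hBle U)).hom s = s ^ Nat.card k) :
    (∃ (u : A ⟶ B) (_ : IsMonHom u) (v : B ⟶ A) (_ : IsMonHom v) (n : ℕ), 0 < n ∧
      u ≫ v = (𝟙 A) ^ n ∧ v ≫ u = (𝟙 B) ^ n) ↔
    (AbDual.tateMapₗ (l := l) (T := SGA7.pt (K := k) Ω) πA).charpoly =
      (AbDual.tateMapₗ (l := l) (T := SGA7.pt (K := k) Ω) πB).charpoly := by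
  refine ⟨?_, fun h => ?_⟩
  · rintro ⟨u, hu, v, hv, n, hn, h1, h2⟩
    let e := LinearEquiv.ofBijective _ (bijective_of_isog (l := l) Ω u v hn h1 h2)
    refine Polynomial.map_injective _ (IsFractionRing.injective ℤ_[l] ℚ_[l]) ?_
    rw [← LinearMap.charpoly_baseChange, ← LinearMap.charpoly_baseChange,
      ← LinearEquiv.charpoly_conj e]
    congr 1
    refine LinearMap.ext fun y => ?_
    obtain ⟨x, rfl⟩ := e.surjective y
    rw [LinearEquiv.conj_apply_apply, LinearEquiv.symm_apply_apply]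
    have hcomm := AVQuot.tateMapₗ_congr (l := l) (T := SGA7.pt (K := k) Ω) _ _
      (AVDeg.frob_comm πA hAb hAle hAapp πB hBb hBle hBapp u)
    rw [AVQuot.tateMapₗ_comp', AVQuot.tateMapₗ_comp'] at hcomm
    have hc := congrArg (LinearMap.baseChange ℚ_[l]) hcomm
    rw [LinearMap.baseChange_comp, LinearMap.baseChange_comp] at hc
    exact LinearMap.congr_fun hc x
  · obtain ⟨e, he⟩ := exists_conj_of_charpoly_eq
      ((AbDual.tateMapₗ (l := l) (T := SGA7.pt (K := k) Ω) πA).baseChange ℚ_[l])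
      ((AbDual.tateMapₗ (l := l) (T := SGA7.pt (K := k) Ω) πB).baseChange ℚ_[l])
      (AVDeg.isSemisimple_tate (φ := EndAV.End.of πA) Ω (AVDeg.frob_semisimple πA hAb hAle hAapp).2.2)
      (AVDeg.isSemisimple_tate (φ := EndAV.End.of πB) Ω (AVDeg.frob_semisimple πB hBb hBle hBapp).2.2)
      (by rw [LinearMap.charpoly_baseChange, LinearMap.charpoly_baseChange, h])
    exact exists_isog_of_intertwiner Ω hl πA hAb hAle hAapp πB hBb hBle hBapp e he

end Groth.Agent.AVTate
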