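import Mathlib.NumberTheory.Padics.Hensel
import Mathlib.FieldTheory.PrimitiveElement
import Mathlib.FieldTheory.SplittingField.Construction
import Mathlib.RingTheory.Localization.Integral
import Mathlib.Algebra.Polynomial.Roots

/-!
# Infinitely many primes split a rational polynomial in the `l`-adic numbers
-/

set_option autoImplicit false

open Polynomial

namespace Groth.Agent.AVTate

/-- Schur: values of a nonconstant integer polynomial have arbitrarily new prime divisors. -/
theorem exists_prime_dvd_eval (P : ℤ[X]) (hP : 0 < P.natDegree) (N : ℕ) (hN : N ≠ 0) :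
    ∃ l : ℕ, l.Prime ∧ ¬ l ∣ N ∧ ∃ a : ℤ, (l : ℤ) ∣ P.eval a := by
  by_cases h0 : P.eval 0 = 0
  · obtain ⟨l, hle, hl⟩ := Nat.exists_infinite_primes (N + 1)
    refine ⟨l, hl, fun h => ?_, 0, by rw [h0]; exact dvd_zero _⟩
    have := Nat.le_of_dvd (Nat.pos_of_ne_zero hN) h
    omega
  set c := P.eval 0 with hc
  set S := P.comp (C (c * N) * X) with hS
  have hSd : 0 < S.natDegree := by
    rw [hS, natDegree_comp, natDegree_C_mul (mul_ne_zero h0 (Int.natCast_ne_zero.2 hN)), natDegree_X, mul_one]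
    exact hP
  have hfin : {t : ℤ | S.eval t = c ∨ S.eval t = -c}.Finite := by
    refine ((Polynomial.finite_setOf_isRoot (p := S - C c) ?_).union
      (Polynomial.finite_setOf_isRoot (p := S - C (-c)) ?_)).subset ?_
    · intro h
      have := congrArg natDegree h
      rw [natDegree_sub_C, natDegree_zero] at this
      omega
    · intro h
      have := congrArg natDegree h
      rw [natDegree_sub_C, natDegree_zero] at this
      omega
    · rintro t (ht | ht)
      · left; simp [IsRoot, ht]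
      · right; simp [IsRoot, ht]
  obtain ⟨t, ht⟩ := hfin.exists_notMem
  obtain ⟨R, hR⟩ : X ∣ P - C c := by
    rw [X_dvd_iff, coeff_sub, coeff_C_zero, hc, coeff_zero_eq_eval_zero, sub_self]
  have hPe : S.eval t = c * (1 + N * t * R.eval (c * N * t)) := by
    have h := congrArg (eval (c * N * t)) hR
    simp only [eval_sub, eval_C, eval_mul, eval_X] at h
    rw [hS, eval_comp, eval_mul, eval_C, eval_X, eq_add_of_sub_eq h]
    ring
  set w := 1 + (N : ℤ) * t * R.eval (c * N * t) with hw
  have hw1 : w.natAbs ≠ 1 := by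
    intro h
    rcases Int.natAbs_eq_iff.1 h with h | h
    · exact ht (Or.inl (by rw [hPe, h]; simp))
    · exact ht (Or.inr (by rw [hPe, h]; simp))
  obtain ⟨l, hl, hlw⟩ := Nat.exists_prime_and_dvd hw1
  have hlw' : (l : ℤ) ∣ w := Int.natCast_dvd.2 hlw
  refine ⟨l, hl, fun h => ?_, c * N * t, ?_⟩
  · have hN' : (l : ℤ) ∣ (N : ℤ) := Int.natCast_dvd_natCast.2 h
    have h1 : (l : ℤ) ∣ w - (N : ℤ) * t * R.eval (c * N * t) :=
      dvd_sub hlw' ((hN'.mul_right t).mul_right _)
    rw [hw, add_sub_cancel_right] at h1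
    have := Int.le_of_dvd one_pos h1
    have := hl.two_le
    omega
  · rw [show P.eval (c * N * t) = S.eval t by rw [hS, eval_comp, eval_mul, eval_C, eval_X], hPe]
    exact hlw'.mul_left _

/-- **Split primes.** -/
theorem exists_split_prime (m : ℚ[X]) (B : ℕ) :
    ∃ l : ℕ, B < l ∧ ∃ h : l.Prime, haveI := Fact.mk h; (m.map (algebraMap ℚ ℚ_[l])).Splits := by
  classical
  let K := m.SplittingField
  let pb := Field.powerBasisOfFiniteOfSeparable ℚ K
  let p := minpoly ℚ pb.gen
  have hint : IsIntegral ℚ pb.gen := pb.isIntegral_gen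
  have hp0 : p ≠ 0 := minpoly.ne_zero hint
  have hsep : p.Separable := (minpoly.irreducible hint).separable
  let P := IsLocalization.integerNormalization (nonZeroDivisors ℤ) p
  obtain ⟨⟨b, hb⟩, hPb⟩ := IsLocalization.integerNormalization_map_to_map (nonZeroDivisors ℤ) p
  have hb0 : (b : ℤ) ≠ 0 := nonZeroDivisors.ne_zero hb
  have hPmap : P.map (algebraMap ℤ ℚ) = C (b : ℚ) * p := by
    refine hPb.trans ?_
    rw [zsmul_eq_mul]
    simp
  have hbu : IsUnit (C (b : ℚ)) := isUnit_C.2 (isUnit_iff_ne_zero.2 (Int.cast_ne_zero.2 hb0))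
  have hPd : 0 < P.natDegree := by
    rw [← natDegree_map_eq_of_injective (algebraMap ℤ ℚ).injective_int P, hPmap,
      natDegree_C_mul (Int.cast_ne_zero.2 hb0)]
    exact minpoly.natDegree_pos hint
  have hPsep : (P.map (algebraMap ℤ ℚ)).Separable := by
    rw [hPmap]
    exact hsep.of_dvd ((associated_isUnit_mul_left_iff hbu).2 (Associated.refl p)).dvd
  obtain ⟨u, v, huv⟩ := (separable_def' _).1 hPsep
  obtain ⟨⟨b₁, hb₁⟩, hU⟩ := IsLocalization.integerNormalization_map_to_map (nonZeroDivisors ℤ) u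
  obtain ⟨⟨b₂, hb₂⟩, hV⟩ := IsLocalization.integerNormalization_map_to_map (nonZeroDivisors ℤ) v
  set U := IsLocalization.integerNormalization (nonZeroDivisors ℤ) u
  set V := IsLocalization.integerNormalization (nonZeroDivisors ℤ) v
  have hR : C (b₂ : ℤ) * U * P + C (b₁ : ℤ) * V * derivative P = C (b₁ * b₂) := by
    apply map_injective _ (algebraMap ℤ ℚ).injective_int
    simp only [Polynomial.map_add, Polynomial.map_mul, map_C, ← derivative_map]
    rw [hU, hV]
    simp only [zsmul_eq_mul, map_mul, eq_intCast, map_intCast]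
    linear_combination ((b₁ : ℚ[X]) * (b₂ : ℚ[X])) * huv
  have hR0 : b₁ * b₂ ≠ 0 := mul_ne_zero (nonZeroDivisors.ne_zero hb₁) (nonZeroDivisors.ne_zero hb₂)
  obtain ⟨l, hl, hlN, a, hla⟩ := exists_prime_dvd_eval P hPd (B.factorial * (b₁ * b₂).natAbs)
    (mul_ne_zero B.factorial_ne_zero (Int.natAbs_ne_zero.2 hR0))
  refine ⟨l, ?_, hl, ?_⟩
  · by_contra hle
    exact hlN (dvd_mul_of_dvd_left (Nat.dvd_factorial hl.pos (not_lt.1 hle)) _)
  haveI := Fact.mk hl
  have haev : ∀ F : ℤ[X], aeval (a : ℤ_[l]) F = ((F.eval a : ℤ) : ℤ_[l]) := fun F =>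
    aeval_algebraMap_apply_eq_algebraMap_eval a F
  have hd : ¬ (l : ℤ) ∣ (derivative P).eval a := fun hd => by
    have h := congrArg (eval a) hR
    simp only [eval_add, eval_mul, eval_C] at h
    have : (l : ℤ) ∣ b₁ * b₂ := h ▸ dvd_add (hla.mul_left _) (hd.mul_left _)
    exact hlN (dvd_mul_of_dvd_right (Int.natCast_dvd.1 this) _)
  obtain ⟨z, hz, -⟩ := hensels_lemma (p := l) (F := P) (a := (a : ℤ_[l])) (by
    rw [haev, haev]
    have h1 : ‖(((derivative P).eval a : ℤ) : ℤ_[l])‖ = 1 :=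
      le_antisymm (PadicInt.norm_le_one _) (not_lt.1 (mt (PadicInt.norm_int_lt_one_iff_dvd _).1 hd))
    rw [h1, one_pow]
    exact (PadicInt.norm_int_lt_one_iff_dvd _).2 hla)
  have hzp : aeval (z : ℚ_[l]) p = 0 := by
    have h1 : aeval (z : ℚ_[l]) P = 0 := by
      have := aeval_algebraMap_apply ℚ_[l] z P
      rw [hz, map_zero] at this
      exact this
    rw [← aeval_map_algebraMap ℚ (z : ℚ_[l]) P, hPmap, map_mul, aeval_C] at h1
    exact (mul_eq_zero.1 h1).resolve_left ((_root_.map_ne_zero _).2 (Int.cast_ne_zero.2 hb0))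
  let f : K →ₐ[ℚ] ℚ_[l] := pb.lift (z : ℚ_[l]) hzp
  have := (SplittingField.splits m).map f.toRingHom
  rw [Polynomial.map_map] at this
  exact (f.comp_algebraMap ▸ this :)

end Groth.Agent.AVTate
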