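import Groth.Agent.AVTate.Split
import Groth.Agent.AVTate.SplitPrime
import Groth.Agent.AVDeg.TateSat
import Groth.Agent.AVDeg.DegBC
import Groth.Agent.AVDeg.PointCount
import Groth.Agent.S14944
import Groth.Agent.S16586

/-!
# Tate's theorem for abelian varieties over finite fields
-/

set_option autoImplicit false
set_option backward.isDefEq.respectTransparency false
set_option backward.isDefEq.respectTransparency.types false
set_option linter.style.haveILetI false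
set_option linter.unusedSectionVars false
set_option synthInstance.maxHeartbeats 400000
set_option maxHeartbeats 1000000

universe u

open CategoryTheory MonoidalCategory CartesianMonoidalCategory MonObj GrpObj AlgebraicGeometry
open scoped TensorProduct

noncomputable section

namespace Groth.Agent.AVTate

variable {k : Type u} (Ω : Type u) [Field k] [Field Ω] [Algebra k Ω]
variable {X : Over (Spec (CommRingCat.of k))} [GrpObj X] [IsCommMonObj X] [IsProper X.hom] [GeometricallyIntegral X.hom]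

/-- Tate modules are finite free. -/
theorem tate_finite_free [IsAlgClosed Ω] {l : ℕ} [Fact l.Prime] (hl : (l : k) ≠ 0) :
    Module.Finite ℤ_[l] (AbDual.TateMod X l (SGA7.pt (K := k) Ω)) ∧
      Module.Free ℤ_[l] (AbDual.TateMod X l (SGA7.pt (K := k) Ω)) := by
  obtain ⟨hf, hr⟩ := AVDeg.moduleFinite_tate (A := AVDeg.bcK k Ω X) (l := l) (AVDeg.ne_zero_bc Ω hl)
  haveI := hf
  haveI := hr
  exact ⟨Module.Finite.equiv (AVDeg.tateBC (A := X) (l := l) Ω).symm,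
    Module.Free.of_equiv (AVDeg.tateBC (A := X) (l := l) Ω).symm⟩

section Fixed

variable {l : ℕ} [Fact l.Prime] [IsAlgClosed Ω]
  [Module.Free ℤ_[l] (AbDual.TateMod X l (SGA7.pt (K := k) Ω))]
  [Module.Finite ℤ_[l] (AbDual.TateMod X l (SGA7.pt (K := k) Ω))]

omit [IsAlgClosed Ω] [Module.Finite ℤ_[l] (AbDual.TateMod X l (SGA7.pt (K := k) Ω))] in
theorem baseChange_injective {M : Type*} [AddCommGroup M] [Module ℤ_[l] M] [Module.Free ℤ_[l] M]
    {N : Type*} [AddCommGroup N] [Module ℤ_[l] N] :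
    Function.Injective (LinearMap.baseChange ℚ_[l] : (N →ₗ[ℤ_[l]] M) → _) := by
  intro a b h
  refine LinearMap.ext fun z => ?_
  let B := Module.Free.chooseBasis ℤ_[l] M
  refine B.repr.injective (Finsupp.ext fun i => ?_)
  have h' := congrArg (fun w => (B.baseChange ℚ_[l]).repr w i) (LinearMap.congr_fun h ((1 : ℚ_[l]) ⊗ₜ[ℤ_[l]] z))
  simp only [LinearMap.baseChange_tmul, Module.Basis.baseChange_repr_tmul] at h'
  exact (IsFractionRing.injective ℤ_[l] ℚ_[l]) (by simpa [Algebra.smul_def] using h')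

/-- The dimension of the image of `ℚ_l ⊗ End` is the rank of `End`. -/
theorem finrank_end_image (hl : (l : k) ≠ 0) :
    Module.finrank ℚ_[l] (AVQuot.ratRepL Ω l X).range = Module.finrank ℤ (EndAV.End X) := by
  haveI : Nonempty X.left := ⟨η[X].left (IsLocalRing.closedPoint k)⟩
  obtain ⟨g, hg⟩ := AVDeg.exists_dim X
  obtain ⟨hfree, hfin, -⟩ := AVDeg.hom_lattice (A := X) (B := X) hg hg
  haveI := hfree
  haveI := hfin
  let e := Module.finBasis ℤ (EndAV.Hom X X)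
  have hT := AVDeg.linearIndependent_tateMap' (l := l) (A := X) (B := X) Ω hl _ e.linearIndependent
  let bc : Module.End ℤ_[l] (AbDual.TateMod X l (SGA7.pt (K := k) Ω)) →ₗ[ℤ_[l]]
      Module.End ℚ_[l] (ℚ_[l] ⊗[ℤ_[l]] AbDual.TateMod X l (SGA7.pt (K := k) Ω)) :=
    { toFun := fun a => a.baseChange ℚ_[l]
      map_add' := fun a b => LinearMap.baseChange_add a b
      map_smul' := fun r a => LinearMap.baseChange_smul r a }
  have hV := hT.map' bc (LinearMap.ker_eq_bot.2 (baseChange_injective (l := l)))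
  rw [LinearIndependent.iff_fractionRing ℤ_[l] ℚ_[l]] at hV
  have hspan : Submodule.span ℚ_[l] (Set.range fun i => bc (EndAV.Hom.tateMap l (SGA7.pt (K := k) Ω) (e i))) =
      Subalgebra.toSubmodule (AVQuot.ratRepL Ω l X).range := by
    rw [AVQuot.range_ratRepL]
    refine le_antisymm (Submodule.span_le.2 ?_) (Submodule.span_le.2 ?_)
    · rintro _ ⟨i, rfl⟩
      exact Submodule.subset_span ⟨(e i).toHom, inferInstance, rfl⟩
    · rintro _ ⟨f, hf, rfl⟩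
      show bc (EndAV.Hom.tateMap l (SGA7.pt (K := k) Ω) (EndAV.Hom.of f)) ∈ _
      rw [← e.sum_repr (EndAV.Hom.of f), map_sum, map_sum]
      refine Submodule.sum_mem _ fun i _ => ?_
      rw [map_zsmul, map_zsmul]
      exact zsmul_mem (Submodule.subset_span (Set.mem_range_self i)) _
  show Module.finrank ℚ_[l] (Subalgebra.toSubmodule (AVQuot.ratRepL Ω l X).range) = _
  rw [← hspan]
  exact ((finrank_span_eq_card hV).trans (Fintype.card_fin _)).trans rfl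

/-- The commutant of Frobenius as a subspace. -/
abbrev commutant (πA : X ⟶ X) [IsMonHom πA] :
    Submodule ℚ_[l] (Module.End ℚ_[l] (ℚ_[l] ⊗[ℤ_[l]] AbDual.TateMod X l (SGA7.pt (K := k) Ω))) :=
  LinearMap.ker (LinearMap.lcomp ℚ_[l] _ ((AbDual.tateMapₗ (l := l) (T := SGA7.pt (K := k) Ω) πA).baseChange ℚ_[l]) -
    LinearMap.llcomp ℚ_[l] _ _ _ ((AbDual.tateMapₗ (l := l) (T := SGA7.pt (K := k) Ω) πA).baseChange ℚ_[l]) :
      Module.End ℚ_[l] (ℚ_[l] ⊗[ℤ_[l]] AbDual.TateMod X l (SGA7.pt (K := k) Ω)) →ₗ[ℚ_[l]]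
        Module.End ℚ_[l] (ℚ_[l] ⊗[ℤ_[l]] AbDual.TateMod X l (SGA7.pt (K := k) Ω)))

theorem mem_commutant_iff (πA : X ⟶ X) [IsMonHom πA]
    (φ : Module.End ℚ_[l] (ℚ_[l] ⊗[ℤ_[l]] AbDual.TateMod X l (SGA7.pt (K := k) Ω))) :
    φ ∈ commutant Ω πA ↔ φ * (AbDual.tateMapₗ (l := l) (T := SGA7.pt (K := k) Ω) πA).baseChange ℚ_[l] =
      (AbDual.tateMapₗ (l := l) (T := SGA7.pt (K := k) Ω) πA).baseChange ℚ_[l] * φ := by
  rw [LinearMap.mem_ker, LinearMap.sub_apply, sub_eq_zero]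
  rfl

/-- Endomorphisms commute with Frobenius. -/
theorem image_le_commutant [Finite k] (πA : X ⟶ X) [IsMonHom πA] (hb : πA.left.base = 𝟙 _)
    (hle : ∀ U : X.left.Opens, U ≤ πA.left ⁻¹ᵁ U)
    (happ : ∀ (U : X.left.Opens) (s : Γ(X.left, U)), (πA.left.appLE U U (hle U)).hom s = s ^ Nat.card k) :
    Subalgebra.toSubmodule (AVQuot.ratRepL Ω l X).range ≤ commutant Ω πA := by
  rw [AVQuot.range_ratRepL, Submodule.span_le]
  rintro _ ⟨f, hf, rfl⟩
  rw [SetLike.mem_coe, mem_commutant_iff, ← LinearMap.baseChange_mul, ← LinearMap.baseChange_mul]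
  refine congrArg (LinearMap.baseChange ℚ_[l]) ?_
  show _ ∘ₗ _ = _ ∘ₗ _
  rw [← AVQuot.tateMapₗ_comp', ← AVQuot.tateMapₗ_comp']
  exact AVQuot.tateMapₗ_congr _ _ (AVDeg.frob_comm πA hb hle happ πA hb hle happ f)

end Fixed

/-- **Tate's theorem, rational form.** -/
theorem commutant_mem_span [Finite k] [IsAlgClosure k Ω] {l : ℕ} [Fact l.Prime] (hl : (l : k) ≠ 0)
    (πA : X ⟶ X) [IsMonHom πA] (hb : πA.left.base = 𝟙 _) (hle : ∀ U : X.left.Opens, U ≤ πA.left ⁻¹ᵁ U)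
    (happ : ∀ (U : X.left.Opens) (s : Γ(X.left, U)), (πA.left.appLE U U (hle U)).hom s = s ^ Nat.card k)
    [Module.Free ℤ_[l] (AbDual.TateMod X l (SGA7.pt (K := k) Ω))]
    [Module.Finite ℤ_[l] (AbDual.TateMod X l (SGA7.pt (K := k) Ω))] :
    commutant (l := l) Ω πA = Subalgebra.toSubmodule (AVQuot.ratRepL Ω l X).range := by
  haveI : IsAlgClosed Ω := IsAlgClosure.isAlgClosed k
  obtain ⟨l₀, hB, hp, hsplit⟩ := exists_split_prime (minpoly ℚ (EndAV.toEnd0 (EndAV.End.of πA))) (max 2 (ringChar k))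
  haveI := Fact.mk hp
  have hl₀ : (l₀ : k) ≠ 0 := fun h => by
    haveI := CharP.char_is_prime k (ringChar k)
    have := (Nat.prime_dvd_prime_iff_eq (CharP.char_is_prime k (ringChar k)) hp).1 ((ringChar.spec k l₀).1 h)
    omega
  obtain ⟨hf₀, hr₀⟩ := tate_finite_free (X := X) Ω (l := l₀) hl₀
  haveI := hf₀
  haveI := hr₀
  have h₀ : commutant (l := l₀) Ω πA = Subalgebra.toSubmodule (AVQuot.ratRepL Ω l₀ X).range := by
    refine le_antisymm (fun φ hφ => ?_) (image_le_commutant Ω πA hb hle happ)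
    rw [AVQuot.range_ratRepL]
    exact commutant_split (hp.odd_of_ne_two (by omega)) hl₀ πA hb hle happ hsplit φ ((mem_commutant_iff Ω πA φ).1 hφ)
  symm
  refine Submodule.eq_of_le_of_finrank_eq (image_le_commutant Ω πA hb hle happ) ?_
  have h1 := finrank_end_image (X := X) Ω (l := l) hl
  have h2 := finrank_end_image (X := X) Ω (l := l₀) hl₀
  have h3 : Module.finrank ℚ_[l] (commutant (l := l) Ω πA) = Module.finrank ℚ_[l₀] (commutant (l := l₀) Ω πA) :=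
    Groth.Agent.S14944.result k Ω X πA hb hle happ l l₀ hl hl₀
  rw [h3, h₀]
  exact h1.trans h2.symm

section Integral

variable {l : ℕ} [Fact l.Prime]

/-- Clearing denominators. -/
theorem exists_pow_smul_mem_span {M N : Type*} [AddCommGroup M] [Module ℤ_[l] M] [Module.Free ℤ_[l] M]
    [AddCommGroup N] [Module ℤ_[l] N] (S : Set (N →ₗ[ℤ_[l]] M)) (ψ : N →ₗ[ℤ_[l]] M)
    (h : ψ.baseChange ℚ_[l] ∈ Submodule.span ℚ_[l] (LinearMap.baseChange ℚ_[l] '' S)) :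
    ∃ n : ℕ, ((l : ℤ_[l]) ^ n) • ψ ∈ Submodule.span ℤ_[l] S := by
  suffices ∀ x ∈ Submodule.span ℚ_[l] (LinearMap.baseChange ℚ_[l] '' S),
      ∃ (n : ℕ) (χ : N →ₗ[ℤ_[l]] M), χ ∈ Submodule.span ℤ_[l] S ∧ ((l : ℚ_[l]) ^ n) • x = χ.baseChange ℚ_[l] by
    obtain ⟨n, χ, hχ, e⟩ := this _ h
    refine ⟨n, ?_⟩
    rw [show ((l : ℤ_[l]) ^ n) • ψ = χ from baseChange_injective (by
      rw [LinearMap.baseChange_smul, ← algebraMap_smul ℚ_[l] ((l : ℤ_[l]) ^ n), map_pow, map_natCast, e])]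
    exact hχ
  intro x hx
  induction hx using Submodule.span_induction with
  | mem y hy =>
    obtain ⟨χ, hχ, rfl⟩ := hy
    exact ⟨0, χ, Submodule.subset_span hχ, by rw [pow_zero, one_smul]⟩
  | zero => exact ⟨0, 0, Submodule.zero_mem _, by rw [smul_zero, LinearMap.baseChange_zero]⟩
  | add a b _ _ ha hb =>
    obtain ⟨n₁, χ₁, h₁, e₁⟩ := ha
    obtain ⟨n₂, χ₂, h₂, e₂⟩ := hb
    refine ⟨n₁ + n₂, ((l : ℤ_[l]) ^ n₂) • χ₁ + ((l : ℤ_[l]) ^ n₁) • χ₂,
      Submodule.add_mem _ (Submodule.smul_mem _ _ h₁) (Submodule.smul_mem _ _ h₂), ?_⟩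
    rw [smul_add, LinearMap.baseChange_add, LinearMap.baseChange_smul, LinearMap.baseChange_smul, ← e₁, ← e₂,
      ← algebraMap_smul ℚ_[l] ((l : ℤ_[l]) ^ n₂), ← algebraMap_smul ℚ_[l] ((l : ℤ_[l]) ^ n₁), map_pow, map_pow,
      map_natCast, smul_smul, smul_smul, ← pow_add, ← pow_add, add_comm n₂ n₁]
  | smul c a _ ha =>
    obtain ⟨n, χ, hχ, e⟩ := ha
    obtain ⟨d, hd⟩ : ∃ d : ℕ, ‖((l : ℚ_[l]) ^ d) * c‖ ≤ 1 := by
      obtain ⟨d, hd⟩ := exists_nat_ge ‖c‖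
      refine ⟨d, ?_⟩
      rw [norm_mul, norm_pow, Padic.norm_p, inv_pow, inv_mul_le_iff₀
        (pow_pos (Nat.cast_pos.2 (Fact.out : l.Prime).pos) d), _root_.mul_one]
      refine hd.trans ?_
      exact_mod_cast (Nat.lt_pow_self (Fact.out : l.Prime).one_lt).le
    let r : ℤ_[l] := ⟨_, hd⟩
    refine ⟨d + n, r • χ, Submodule.smul_mem _ _ hχ, ?_⟩
    rw [LinearMap.baseChange_smul, ← e, ← algebraMap_smul ℚ_[l] r, smul_smul, smul_smul]
    congr 1
    show _ = (l : ℚ_[l]) ^ d * c * (l : ℚ_[l]) ^ n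
    rw [pow_add]
    ring

/-- **Tate's theorem.**  Maps of Tate modules commuting with Frobenius come from homomorphisms. -/
theorem mem_span_of_comm [Finite k] [IsAlgClosure k Ω] (hl : (l : k) ≠ 0)
    {A B : Over (Spec (CommRingCat.of k))}
    [GrpObj A] [IsCommMonObj A] [IsProper A.hom] [GeometricallyIntegral A.hom]
    [GrpObj B] [IsCommMonObj B] [IsProper B.hom] [GeometricallyIntegral B.hom]
    (πA : A ⟶ A) [IsMonHom πA] (hAb : πA.left.base = 𝟙 _) (hAle : ∀ U : A.left.Opens, U ≤ πA.left ⁻¹ᵁ U)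
    (hAapp : ∀ (U : A.left.Opens) (s : Γ(A.left, U)), (πA.left.appLE U U (hAle U)).hom s = s ^ Nat.card k)
    (πB : B ⟶ B) [IsMonHom πB] (hBb : πB.left.base = 𝟙 _) (hBle : ∀ U : B.left.Opens, U ≤ πB.left ⁻¹ᵁ U)
    (hBapp : ∀ (U : B.left.Opens) (s : Γ(B.left, U)), (πB.left.appLE U U (hBle U)).hom s = s ^ Nat.card k)
    (u : AbDual.TateMod A l (SGA7.pt (K := k) Ω) →ₗ[ℤ_[l]] AbDual.TateMod B l (SGA7.pt (K := k) Ω))
    (hu : u ∘ₗ AbDual.tateMapₗ (l := l) (T := SGA7.pt (K := k) Ω) πA =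
      AbDual.tateMapₗ (l := l) (T := SGA7.pt (K := k) Ω) πB ∘ₗ u) :
    u ∈ Submodule.span ℤ_[l] (Set.range (EndAV.Hom.tateMap (A := A) (B := B) l (SGA7.pt (K := k) Ω))) := by
  haveI : IsAlgClosed Ω := IsAlgClosure.isAlgClosed k
  haveI : IsProper (A ⊗ B).hom := inferInstanceAs (IsProper (Limits.pullback.fst A.hom B.hom ≫ A.hom))
  haveI : GeometricallyIntegral (A ⊗ B).hom :=
    W7Cube.geometricallyIntegral_prod (IsPullback.of_hasPullback A.hom B.hom) (A ⊗ B).hom rfl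
  obtain ⟨hf, hr⟩ := tate_finite_free (X := A ⊗ B) Ω (l := l) hl
  haveI := hf
  haveI := hr
  haveI := Fintype.ofFinite k
  obtain ⟨p, hp⟩ := CharP.exists k
  obtain ⟨e, hpr, hcard⟩ := FiniteField.card k p
  haveI := Fact.mk hpr
  have hq : Nat.card k = p ^ (e : ℕ) := by rw [Nat.card_eq_fintype_card]; exact hcard
  let πX := AVDeg.frobOver p (e : ℕ) hq (A ⊗ B)
  haveI : IsMonHom πX := AVDeg.isMonHom_frobOver hq
  have hXb := AVDeg.frobOver_base hq (A ⊗ B)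
  have hXle := AVDeg.le_frobOver hq (A ⊗ B)
  have hXapp := AVDeg.frobOver_app hq (A ⊗ B)
  have h1 := AVDeg.frob_comm πX hXb hXle hXapp πA hAb hAle hAapp (fst A B)
  have h2 := AVDeg.frob_comm πB hBb hBle hBapp πX hXb hXle hXapp (lift (1 : B ⟶ A) (𝟙 B))
  let P₁ := AbDual.tateMapₗ (l := l) (T := SGA7.pt (K := k) Ω) (fst A B)
  let I₂ := AbDual.tateMapₗ (l := l) (T := SGA7.pt (K := k) Ω) (lift (1 : B ⟶ A) (𝟙 B))
  let U := I₂ ∘ₗ u ∘ₗ P₁
  have hU : U ∘ₗ AbDual.tateMapₗ (l := l) (T := SGA7.pt (K := k) Ω) πX =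
      AbDual.tateMapₗ (l := l) (T := SGA7.pt (K := k) Ω) πX ∘ₗ U := by
    have e1 : P₁ ∘ₗ AbDual.tateMapₗ (l := l) (T := SGA7.pt (K := k) Ω) πX =
        AbDual.tateMapₗ (l := l) (T := SGA7.pt (K := k) Ω) πA ∘ₗ P₁ := by
      rw [← AVQuot.tateMapₗ_comp', ← AVQuot.tateMapₗ_comp']
      exact AVQuot.tateMapₗ_congr _ _ h1
    have e2 : I₂ ∘ₗ AbDual.tateMapₗ (l := l) (T := SGA7.pt (K := k) Ω) πB =
        AbDual.tateMapₗ (l := l) (T := SGA7.pt (K := k) Ω) πX ∘ₗ I₂ := by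
      rw [← AVQuot.tateMapₗ_comp', ← AVQuot.tateMapₗ_comp']
      exact AVQuot.tateMapₗ_congr _ _ h2
    show (I₂ ∘ₗ u ∘ₗ P₁) ∘ₗ _ = _
    rw [LinearMap.comp_assoc, LinearMap.comp_assoc, e1, ← LinearMap.comp_assoc P₁ (AbDual.tateMapₗ πA) u, hu,
      LinearMap.comp_assoc, ← LinearMap.comp_assoc, e2, LinearMap.comp_assoc]
  let S : Set (Module.End ℤ_[l] (AbDual.TateMod (A ⊗ B) l (SGA7.pt (K := k) Ω))) :=
    {ψ | ∃ (f : A ⊗ B ⟶ A ⊗ B) (_ : IsMonHom f), ψ = AbDual.tateMapₗ (l := l) (T := SGA7.pt (K := k) Ω) f}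
  have hbc : U.baseChange ℚ_[l] ∈ Submodule.span ℚ_[l] (LinearMap.baseChange ℚ_[l] '' S) := by
    have h : U.baseChange ℚ_[l] ∈ commutant (l := l) Ω πX := by
      rw [mem_commutant_iff, ← LinearMap.baseChange_mul, ← LinearMap.baseChange_mul]
      exact congrArg (LinearMap.baseChange ℚ_[l]) hU
    rw [commutant_mem_span Ω hl πX hXb hXle hXapp, AVQuot.range_ratRepL] at h
    refine Submodule.span_mono ?_ h
    rintro _ ⟨f, hf, rfl⟩
    exact ⟨_, ⟨f, hf, rfl⟩, rfl⟩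
  obtain ⟨n, hn⟩ := exists_pow_smul_mem_span S U hbc
  refine AVDeg.mem_span_of_pow_smul_mem Ω hl u n ?_
  let P₂ := AbDual.tateMapₗ (l := l) (T := SGA7.pt (K := k) Ω) (snd A B)
  let I₁ := AbDual.tateMapₗ (l := l) (T := SGA7.pt (K := k) Ω) (lift (𝟙 A) (1 : A ⟶ B))
  have hback : ∀ ψ ∈ Submodule.span ℤ_[l] S, P₂ ∘ₗ ψ ∘ₗ I₁ ∈
      Submodule.span ℤ_[l] (Set.range (EndAV.Hom.tateMap (A := A) (B := B) l (SGA7.pt (K := k) Ω))) := by
    intro ψ hψ
    induction hψ using Submodule.span_induction with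
    | mem y hy =>
      obtain ⟨f, hf, rfl⟩ := hy
      refine Submodule.subset_span ⟨EndAV.Hom.of (lift (𝟙 A) (1 : A ⟶ B) ≫ f ≫ snd A B), ?_⟩
      show AbDual.tateMapₗ (lift (𝟙 A) (1 : A ⟶ B) ≫ f ≫ snd A B) = _
      rw [AVQuot.tateMapₗ_comp', AVQuot.tateMapₗ_comp', LinearMap.comp_assoc]
    | zero => rw [LinearMap.zero_comp, LinearMap.comp_zero]; exact Submodule.zero_mem _
    | add a b _ _ ha hb => rw [LinearMap.add_comp, LinearMap.comp_add]; exact Submodule.add_mem _ ha hb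
    | smul c a _ ha => rw [LinearMap.smul_comp, LinearMap.comp_smul]; exact Submodule.smul_mem _ c ha
  have h := hback _ hn
  have e3 : P₂ ∘ₗ (((l : ℤ_[l]) ^ n) • U) ∘ₗ I₁ = ((l : ℤ_[l]) ^ n) • u := by
    rw [LinearMap.smul_comp, LinearMap.comp_smul]
    congr 1
    refine LinearMap.ext fun z => ?_
    show P₂ (I₂ (u (P₁ (I₁ z)))) = u z
    simp only [P₂, I₂, P₁, I₁, AVQuot.tateMapₗ_fst_inl, AVQuot.tateMapₗ_snd_inr]
  rwa [e3] at h

end Integral

end Groth.Agent.AVTate
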