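import Groth.Agent.AVTate.Rank
import Groth.Agent.AVDeg.MinPolyTate
import Groth.Agent.AVDeg.WeilRoots
import Groth.Agent.AVDeg.MinpolyPow

/-!
Abelian varieties over a finite field whose endomorphism ring is a monogenic order up to isogeny
(the situation of Centeleghe and Stix).
-/

set_option autoImplicit false
set_option backward.isDefEq.respectTransparency false
set_option backward.isDefEq.respectTransparency.types false
set_option linter.unusedSectionVars false
set_option synthInstance.maxHeartbeats 400000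
set_option maxHeartbeats 1000000

universe u

open CategoryTheory MonoidalCategory CartesianMonoidalCategory MonObj GrpObj AlgebraicGeometry
open UniqueFactorizationMonoid
open scoped TensorProduct

noncomputable section

namespace Groth.Agent.AVTate

variable {k : Type u} [Field k]

section Annihilate

variable {A : Over (Spec (CommRingCat.of k))} [GrpObj A] [IsCommMonObj A] [IsProper A.hom] [GeometricallyIntegral A.hom]

theorem aeval_toEnd0 {φ : EndAV.End A} (q : Polynomial ℤ) :
    Polynomial.aeval (EndAV.toEnd0 φ) (q.map (Int.castRingHom ℚ)) = EndAV.toEnd0 (Polynomial.aeval φ q) := by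
  rw [← algebraMap_int_eq, Polynomial.aeval_map_algebraMap, Polynomial.aeval_algHom_apply]

variable [Finite k] (Ω : Type u) [Field Ω] [Algebra k Ω] [IsAlgClosed Ω] {l : ℕ} [Fact l.Prime]
  [Module.Free ℤ_[l] (AbDual.TateMod A l (SGA7.pt (K := k) Ω))] [Module.Finite ℤ_[l] (AbDual.TateMod A l (SGA7.pt (K := k) Ω))]

/-- The irreducible factors of the characteristic polynomial of Frobenius divide any polynomial killing Frobenius. -/
theorem dvd_of_mem_factors (hl : (l : k) ≠ 0)
    (πA : A ⟶ A) [IsMonHom πA] (hb : πA.left.base = 𝟙 _) (hle : ∀ U : A.left.Opens, U ≤ πA.left ⁻¹ᵁ U)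
    (happ : ∀ (U : A.left.Opens) (s : Γ(A.left, U)), (πA.left.appLE U U (hle U)).hom s = s ^ Nat.card k)
    {m : Polynomial ℤ} (hm : Polynomial.aeval (EndAV.End.of πA) m = 0) {PA : Polynomial ℤ}
    (hPA : (AbDual.tateMapₗ (l := l) (T := SGA7.pt (K := k) Ω) πA).charpoly = PA.map (Int.castRingHom ℤ_[l]))
    {P : Polynomial ℚ} (hP : P ∈ normalizedFactors (PA.map (Int.castRingHom ℚ))) :
    P ∣ m.map (Int.castRingHom ℚ) := by
  classical
  have hirr := irreducible_of_normalized_factor P hP
  by_contra hcon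
  obtain ⟨a, b, hab⟩ := (hirr.coprime_iff_not_dvd).2 hcon
  let P' := P.map (algebraMap ℚ ℚ_[l])
  have hP'0 : P' ≠ 0 := (Polynomial.map_ne_zero_iff (algebraMap ℚ ℚ_[l]).injective).2 hirr.ne_zero
  have hP'u : ¬ IsUnit P' := fun hu => by
    have := Polynomial.natDegree_eq_zero_of_isUnit hu
    rw [Polynomial.natDegree_map] at this
    exact hirr.natDegree_pos.ne' this
  obtain ⟨s, hs, hsd⟩ := WfDvdMonoid.exists_irreducible_factor hP'u hP'0
  let F : Module.End ℚ_[l] (ℚ_[l] ⊗[ℤ_[l]] AbDual.TateMod A l (SGA7.pt (K := k) Ω)) :=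
    (AbDual.tateMapₗ (l := l) (T := SGA7.pt (K := k) Ω) πA).baseChange ℚ_[l]
  have hc : F.charpoly = (PA.map (Int.castRingHom ℚ)).map (algebraMap ℚ ℚ_[l]) := by
    rw [LinearMap.charpoly_baseChange, hPA, Polynomial.map_map, Polynomial.map_map]
    exact congrArg (fun r => PA.map r) (RingHom.ext_int _ _)
  have hsc : s ∣ F.charpoly := by
    rw [hc]
    exact hsd.trans (Polynomial.map_dvd _ (dvd_of_mem_normalizedFactors hP))
  obtain ⟨q, hq, hsq⟩ := exists_mem_normalizedFactors_of_dvd (LinearMap.charpoly_monic F).ne_zero hs hsc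
  have hann : Polynomial.aeval F ((m.map (Int.castRingHom ℚ)).map (algebraMap ℚ ℚ_[l])) = 0 := by
    rw [Polynomial.aeval_map_algebraMap, ← show AVDeg.ratRep (A := A) (l := l) Ω (EndAV.toEnd0 (EndAV.End.of πA)) = F from
      AVDeg.ratRep_toEnd0 Ω _, Polynomial.aeval_algHom_apply, aeval_toEnd0, hm, map_zero, map_zero]
  have hdm := hsq.dvd.trans (dvd_of_mem_normalizedFactors_charpoly
    (AVDeg.isSemisimple_tate (φ := EndAV.End.of πA) (l := l) Ω (AVDeg.frob_semisimple πA hb hle happ).2.2) hq hann)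
  refine hs.not_isUnit (isUnit_of_dvd_one ?_)
  have h1 := congrArg (Polynomial.map (algebraMap ℚ ℚ_[l])) hab
  rw [Polynomial.map_add, Polynomial.map_mul, Polynomial.map_mul, Polynomial.map_one] at h1
  rw [← h1]
  exact dvd_add (Dvd.dvd.mul_left hsd _) (Dvd.dvd.mul_left hdm _)

end Annihilate

section Minimal

variable {B : Over (Spec (CommRingCat.of k))} [GrpObj B] [IsCommMonObj B] [IsProper B.hom] [GeometricallyIntegral B.hom]

/-- The minimal polynomial in `End⁰`. -/
theorem minpoly_end0 (φ : EndAV.End B) {m : Polynomial ℤ} (hm : m.Monic) (hz : Polynomial.aeval φ m = 0)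
    (hmin : ∀ q : Polynomial ℤ, Polynomial.aeval φ q = 0 → m.map (Int.castRingHom ℚ) ∣ q.map (Int.castRingHom ℚ)) :
    minpoly ℚ (EndAV.toEnd0 φ) = m.map (Int.castRingHom ℚ) := by
  refine (minpoly.unique' ℚ _ (hm.map _) (by rw [aeval_toEnd0, hz, map_zero]) fun q hq => ?_).symm
  by_cases h0 : q = 0
  · exact Or.inl h0
  refine Or.inr fun hqm => ?_
  obtain ⟨c, hc⟩ := IsLocalization.integerNormalization_map_to_map (nonZeroDivisors ℤ) q
  obtain ⟨hc0, hc'⟩ : (c : ℤ) ≠ 0 ∧ _ := ⟨nonZeroDivisors.ne_zero c.2, hc⟩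
  let q' := IsLocalization.integerNormalization (nonZeroDivisors ℤ) q
  have hq' : Polynomial.aeval φ q' = 0 := by
    apply AVDeg.toEnd0_injective (A := B)
    rw [← aeval_toEnd0, ← algebraMap_int_eq, hc', map_zsmul, hqm, smul_zero, map_zero]
  have hd := hmin q' hq'
  rw [← algebraMap_int_eq, hc'] at hd
  have hne : ((c : ℤ) : ℚ) ≠ 0 := Int.cast_ne_zero.2 hc0
  have h1 := Polynomial.natDegree_le_of_dvd hd (smul_ne_zero hc0 h0)
  rw [← Int.cast_smul_eq_zsmul ℚ, Polynomial.natDegree_smul _ hne, algebraMap_int_eq] at h1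
  exact absurd (Polynomial.natDegree_lt_natDegree h0 hq) (not_lt.2 h1)

/-- The rank of a commutative endomorphism ring is the degree of the minimal polynomial of Frobenius. -/
theorem finrank_end_of_comm [Finite k] (πB : B ⟶ B) [IsMonHom πB] (hb : πB.left.base = 𝟙 _)
    (hle : ∀ U : B.left.Opens, U ≤ πB.left ⁻¹ᵁ U)
    (happ : ∀ (U : B.left.Opens) (s : Γ(B.left, U)), (πB.left.appLE U U (hle U)).hom s = s ^ Nat.card k)
    (hcomm : ∀ x y : EndAV.End B, x * y = y * x) {m : Polynomial ℤ} (hm : m.Monic)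
    (hz : Polynomial.aeval (EndAV.End.of πB) m = 0)
    (hmin : ∀ q : Polynomial ℤ, Polynomial.aeval (EndAV.End.of πB) q = 0 →
      m.map (Int.castRingHom ℚ) ∣ q.map (Int.castRingHom ℚ)) :
    Module.finrank ℤ (EndAV.End B) = m.natDegree := by
  rw [← finrank_end0 (X := B), ← hm.natDegree_map (Int.castRingHom ℚ), ← minpoly_end0 _ hm hz hmin]
  let x := EndAV.toEnd0 (EndAV.End.of πB)
  have hsurj : Function.Surjective (Polynomial.aeval (R := ℚ) x) := fun y => by
    have hy : y ∈ Subalgebra.center ℚ (EndAV.End0 B) := by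
      refine Subalgebra.mem_center_iff.2 fun z => ?_
      induction z using TensorProduct.induction_on with
      | zero => rw [mul_zero, zero_mul]
      | tmul a f =>
        induction y using TensorProduct.induction_on with
        | zero => rw [mul_zero, zero_mul]
        | tmul b g => rw [Algebra.TensorProduct.tmul_mul_tmul, Algebra.TensorProduct.tmul_mul_tmul, hcomm f g,
            _root_.mul_comm a b]
        | add s t hs ht => rw [mul_add, add_mul, hs, ht]
      | add s t hs ht => rw [mul_add, add_mul, hs, ht]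
    rw [center_end0 πB hb hle happ, EndAV.QAdj, Algebra.adjoin_singleton_eq_range_aeval] at hy
    exact hy
  have hker : RingHom.ker (Polynomial.aeval (R := ℚ) x) = Ideal.span {minpoly ℚ x} := by
    ext q
    rw [RingHom.mem_ker, Ideal.mem_span_singleton, minpoly.dvd_iff]
  rw [← finrank_quotient_span_eq_natDegree (f := minpoly ℚ x)]
  exact (((Ideal.quotientEquivAlgOfEq ℚ hker.symm).trans
    (Ideal.quotientKerAlgEquivOfSurjective hsurj)).toLinearEquiv.finrank_eq).symm

end Minimal

/-- The product of distinct monic irreducible factors. -/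
theorem sum_natDegree_factors {q : Polynomial ℚ} (hq : q.Monic) :
    ∑ P ∈ (normalizedFactors q).toFinset, (normalizedFactors q).count P * P.natDegree = q.natDegree := by
  have h := congrArg Polynomial.natDegree
    ((UniqueFactorizationMonoid.prod_normalizedFactors_eq hq.ne_zero).trans hq.normalize_eq_self)
  rw [Polynomial.natDegree_multiset_prod _ (fun h0 => zero_notMem_normalizedFactors q h0)] at h
  rw [← h, Finset.sum_multiset_map_count]
  simp only [smul_eq_mul]

section Rank

variable {A B : Over (Spec (CommRingCat.of k))}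
  [GrpObj A] [IsCommMonObj A] [IsProper A.hom] [GeometricallyIntegral A.hom]
  [GrpObj B] [IsCommMonObj B] [IsProper B.hom] [GeometricallyIntegral B.hom]

/-- **`rank Hom(A, A_w) = 2 dim A`.** -/
theorem finrank_hom_of_minimal [Finite k]
    (πA : A ⟶ A) [IsMonHom πA] (hAb : πA.left.base = 𝟙 _) (hAle : ∀ U : A.left.Opens, U ≤ πA.left ⁻¹ᵁ U)
    (hAapp : ∀ (U : A.left.Opens) (s : Γ(A.left, U)), (πA.left.appLE U U (hAle U)).hom s = s ^ Nat.card k)
    (πB : B ⟶ B) [IsMonHom πB] (hBb : πB.left.base = 𝟙 _) (hBle : ∀ U : B.left.Opens, U ≤ πB.left ⁻¹ᵁ U)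
    (hBapp : ∀ (U : B.left.Opens) (s : Γ(B.left, U)), (πB.left.appLE U U (hBle U)).hom s = s ^ Nat.card k)
    {m : Polynomial ℤ} (hm : m.Monic) (hsq : Squarefree (m.map (Int.castRingHom ℚ)))
    (hA : Polynomial.aeval (EndAV.End.of πA) m = 0)
    (hcomm : ∀ x y : EndAV.End B, x * y = y * x)
    (hz : Polynomial.aeval (EndAV.End.of πB) m = 0)
    (hmin : ∀ q : Polynomial ℤ, Polynomial.aeval (EndAV.End.of πB) q = 0 →
      m.map (Int.castRingHom ℚ) ∣ q.map (Int.castRingHom ℚ))
    {g : ℕ} (hg : topologicalKrullDim A.left = (g : WithBot ℕ∞)) :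
    Module.finrank ℤ (EndAV.Hom A B) = 2 * g := by
  classical
  obtain ⟨l, hlk, hlp⟩ := Nat.exists_infinite_primes (max 2 (ringChar k + 1))
  haveI := Fact.mk hlp
  have hl : (l : k) ≠ 0 := fun h => by
    haveI := CharP.char_is_prime k (ringChar k)
    have := (Nat.prime_dvd_prime_iff_eq (CharP.char_is_prime k (ringChar k)) hlp).1 ((ringChar.spec k l).1 h)
    omega
  let Ω := AlgebraicClosure k
  obtain ⟨hf, hr⟩ := tate_finite_free (X := A) Ω (l := l) hl
  obtain ⟨hf', hr'⟩ := tate_finite_free (X := B) Ω (l := l) hl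
  haveI : Nonempty B.left := ⟨η[B].left (IsLocalRing.closedPoint k)⟩
  obtain ⟨h, hh⟩ := AVDeg.exists_dim B
  obtain ⟨PA, -, -, -, hPA⟩ := AVDeg.exists_charpoly_tate (Ω := Ω) (l := l) hl hg (EndAV.End.of πA)
  obtain ⟨PB, -, -, -, hPB⟩ := AVDeg.exists_charpoly_tate (Ω := Ω) (l := l) hl hh (EndAV.End.of πB)
  obtain ⟨hPAm, hPAd, -⟩ := AVDeg.charpoly_tate_data Ω hl hg πA hPA
  obtain ⟨hPBm, -, -⟩ := AVDeg.charpoly_tate_data Ω hl hh πB hPB
  have hmQ0 : m.map (Int.castRingHom ℚ) ≠ 0 := (hm.map _).ne_zero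
  have hsubB : ∀ P ∈ normalizedFactors (PB.map (Int.castRingHom ℚ)), P ∈ normalizedFactors (m.map (Int.castRingHom ℚ)) :=
    fun P hP => (mem_normalizedFactors_iff' hmQ0).2 ⟨irreducible_of_normalized_factor P hP,
      normalize_normalized_factor P hP, dvd_of_mem_factors Ω hl πB hBb hBle hBapp hz hPB hP⟩
  have hsupB : ∀ P ∈ normalizedFactors (m.map (Int.castRingHom ℚ)), P ∈ normalizedFactors (PB.map (Int.castRingHom ℚ)) := by
    intro P hP
    refine (mem_normalizedFactors_iff' (hPBm.map _).ne_zero).2 ⟨irreducible_of_normalized_factor P hP,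
      normalize_normalized_factor P hP, (dvd_of_mem_normalizedFactors hP).trans ?_⟩
    exact hmin PB (AVDeg.aeval_eq_zero_of_charpoly Ω hl _ PB hPB)
  have hFB : (normalizedFactors (PB.map (Int.castRingHom ℚ))).toFinset =
      (normalizedFactors (m.map (Int.castRingHom ℚ))).toFinset := by
    ext P
    simp only [Multiset.mem_toFinset]
    exact ⟨hsubB P, hsupB P⟩
  have hnd := (squarefree_iff_nodup_normalizedFactors hmQ0).1 hsq
  -- every multiplicity in `B` is one
  have hEnd := finrank_hom_sum_rat Ω hl πB hBb hBle hBapp πB hBb hBle hBapp hPB hPB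
  have hEnd' : Module.finrank ℤ (EndAV.Hom B B) = m.natDegree :=
    finrank_end_of_comm πB hBb hBle hBapp hcomm hm hz hmin
  rw [hEnd', ← hm.natDegree_map (Int.castRingHom ℚ), ← sum_natDegree_factors (hm.map _), hFB] at hEnd
  have hle1 : ∀ P ∈ (normalizedFactors (m.map (Int.castRingHom ℚ))).toFinset,
      (normalizedFactors (m.map (Int.castRingHom ℚ))).count P * P.natDegree ≤
        (normalizedFactors (PB.map (Int.castRingHom ℚ))).count P *
          (normalizedFactors (PB.map (Int.castRingHom ℚ))).count P * P.natDegree := by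
    intro P hP
    rw [Multiset.count_eq_one_of_mem hnd (Multiset.mem_toFinset.1 hP)]
    refine Nat.mul_le_mul_right _ ?_
    have := Multiset.one_le_count_iff_mem.2 (hsupB P (Multiset.mem_toFinset.1 hP))
    exact Nat.one_le_iff_ne_zero.2 (by positivity)
  have heq := (Finset.sum_eq_sum_iff_of_le hle1).1 hEnd
  have hone : ∀ P ∈ normalizedFactors (m.map (Int.castRingHom ℚ)),
      (normalizedFactors (PB.map (Int.castRingHom ℚ))).count P = 1 := by
    intro P hP
    have h1 := heq P (Multiset.mem_toFinset.2 hP)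
    rw [Multiset.count_eq_one_of_mem hnd hP] at h1
    exact (Nat.mul_self_inj (m := _) (n := 1)).1 ((_root_.mul_one 1).symm ▸
      (Nat.eq_of_mul_eq_mul_right (irreducible_of_normalized_factor P hP).natDegree_pos h1).symm)
  rw [finrank_hom_sum_rat Ω hl πA hAb hAle hAapp πB hBb hBle hBapp hPA hPB, ← hPAd,
    ← hPAm.natDegree_map (Int.castRingHom ℚ), ← sum_natDegree_factors (hPAm.map _)]
  refine Finset.sum_congr rfl fun P hP => ?_
  rw [hone P ((mem_normalizedFactors_iff' hmQ0).2 ⟨irreducible_of_normalized_factor P (Multiset.mem_toFinset.1 hP),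
    normalize_normalized_factor P (Multiset.mem_toFinset.1 hP),
    dvd_of_mem_factors Ω hl πA hAb hAle hAapp hA hPA (Multiset.mem_toFinset.1 hP)⟩), _root_.mul_one]

end Rank

end Groth.Agent.AVTate
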