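import Groth.Agent.AVTate.MinOrdTate
import Mathlib.FieldTheory.Minpoly.IsIntegrallyClosed

/-!
The minimal order `ℤ[π, q/π]` of a multiplicity free family of Weil numbers.
-/

set_option autoImplicit false
set_option backward.isDefEq.respectTransparency false
set_option backward.isDefEq.respectTransparency.types false
set_option linter.unusedSectionVars false
set_option synthInstance.maxHeartbeats 400000

universe u v

open CategoryTheory MonoidalCategory CartesianMonoidalCategory AlgebraicGeometry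

noncomputable section

namespace Groth.Agent.AVTate

variable {J : Type} [Fintype J] {K : J → Type v} [∀ j, Field (K j)] [∀ j, CharZero (K j)] {ϖ : ∀ j, K j}

/-- The squarefree product of the minimal polynomials. -/
theorem monic_prodMinpoly (hint : ∀ j, IsIntegral ℤ (ϖ j)) : (∏ j, minpoly ℤ (ϖ j)).Monic :=
  Polynomial.monic_prod_of_monic _ _ fun j _ => minpoly.monic (hint j)

theorem map_minpoly (hint : ∀ j, IsIntegral ℤ (ϖ j)) (j : J) :
    (minpoly ℤ (ϖ j)).map (Int.castRingHom ℚ) = minpoly ℚ (ϖ j) := by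
  rw [← algebraMap_int_eq]
  exact (minpoly.isIntegrallyClosed_eq_field_fractions' ℚ (hint j)).symm

theorem pairwise_coprime (hint : ∀ j, IsIntegral ℤ (ϖ j))
    (hinj : ∀ i j, minpoly ℤ (ϖ i) = minpoly ℤ (ϖ j) → i = j) :
    Pairwise fun i j => IsCoprime ((minpoly ℤ (ϖ i)).map (Int.castRingHom ℚ)) ((minpoly ℤ (ϖ j)).map (Int.castRingHom ℚ)) := by
  intro i j hij
  have hirr : ∀ j, Irreducible ((minpoly ℤ (ϖ j)).map (Int.castRingHom ℚ)) := fun j =>
    (map_minpoly hint j).symm ▸ minpoly.irreducible ((hint j).tower_top)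
  refine (hirr i).coprime_iff_not_dvd.2 fun hd => hij (hinj i j ?_)
  refine Polynomial.map_injective (Int.castRingHom ℚ) Int.cast_injective ?_
  exact Polynomial.eq_of_monic_of_associated ((minpoly.monic (hint i)).map _) ((minpoly.monic (hint j)).map _)
    ((hirr i).associated_of_dvd (hirr j) hd)

theorem squarefree_prodMinpoly (hint : ∀ j, IsIntegral ℤ (ϖ j))
    (hinj : ∀ i j, minpoly ℤ (ϖ i) = minpoly ℤ (ϖ j) → i = j) :
    Squarefree ((∏ j, minpoly ℤ (ϖ j)).map (Int.castRingHom ℚ)) := by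
  rw [Polynomial.map_prod]
  refine Finset.squarefree_prod_of_pairwise_isCoprime (fun i _ j _ h => (pairwise_coprime hint hinj h).isRelPrime) fun j _ => ?_
  rw [map_minpoly hint j]
  exact (minpoly.irreducible ((hint j).tower_top)).squarefree

/-- A polynomial vanishes at all `ϖ j` iff the product divides it. -/
theorem dvd_of_aeval (hint : ∀ j, IsIntegral ℤ (ϖ j))
    (hinj : ∀ i j, minpoly ℤ (ϖ i) = minpoly ℤ (ϖ j) → i = j) {q : Polynomial ℤ}
    (hq : ∀ j, Polynomial.aeval (ϖ j) q = 0) :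
    (∏ j, minpoly ℤ (ϖ j)).map (Int.castRingHom ℚ) ∣ q.map (Int.castRingHom ℚ) := by
  rw [Polynomial.map_prod]
  exact Finset.prod_dvd_of_coprime (fun i _ j _ h => pairwise_coprime hint hinj h)
    fun j _ => Polynomial.map_dvd _ ((minpoly.isIntegrallyClosed_dvd_iff (hint j) q).1 (hq j))

section End

variable (x : (j : J) → K j) {R : Subalgebra ℤ ((j : J) → K j)} (hx : x ∈ R)
variable {E : Type*} [Ring E] [Algebra ℤ E] (ρ : R ≃+* E)

theorem aeval_ringEquiv (q : Polynomial ℤ) :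
    Polynomial.aeval (ρ ⟨x, hx⟩) q = ρ ⟨Polynomial.aeval x q, by
      simpa [← Polynomial.aeval_subalgebra_coe] using (Polynomial.aeval (⟨x, hx⟩ : R) q).2⟩ := by
  rw [show (⟨Polynomial.aeval x q, _⟩ : R) = Polynomial.aeval (⟨x, hx⟩ : R) q from
    Subtype.ext (Polynomial.aeval_subalgebra_coe q R ⟨x, hx⟩).symm]
  rw [Polynomial.aeval_def, Polynomial.aeval_def, show ρ (Polynomial.eval₂ _ _ q) = ρ.toRingHom (Polynomial.eval₂ _ _ q) from rfl,
    Polynomial.hom_eval₂]
  exact congrArg (fun f => Polynomial.eval₂ f _ q) (RingHom.ext_int _ _)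

theorem aeval_pi_iff (q : Polynomial ℤ) :
    Polynomial.aeval (ρ ⟨x, hx⟩) q = 0 ↔ ∀ j, Polynomial.aeval (x j) q = 0 := by
  rw [aeval_ringEquiv, map_eq_zero_iff ρ ρ.injective, Subtype.ext_iff, funext_iff]
  exact forall_congr' fun j => by
    show Polynomial.aeval x q j = 0 ↔ _
    rw [Polynomial.aeval_pi_apply₂]

omit [Algebra ℤ E] in
include ρ in
theorem comm_of_ringEquiv (a b : E) : a * b = b * a := by
  obtain ⟨a, rfl⟩ := ρ.surjective a
  obtain ⟨b, rfl⟩ := ρ.surjective b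
  rw [← map_mul, ← map_mul, mul_comm]

end End

/-- The order `ℤ[ϖ, q/ϖ]`. -/
abbrev minOrder (q : ℕ) (ϖ : ∀ j, K j) : Subalgebra ℤ ((j : J) → K j) :=
  (MvPolynomial.aeval ![fun j => ϖ j, fun j => (q : K j) / ϖ j] : MvPolynomial (Fin 2) ℤ →ₐ[ℤ] ((j : J) → K j)).range

theorem ne_zero_of_weil (hint : ∀ j, IsIntegral ℤ (ϖ j)) {q : ℕ} (hq : 0 < q)
    (hweil : ∀ j, ∀ z ∈ (minpoly ℤ (ϖ j)).aroots ℂ, ‖z‖ = Real.sqrt q) (j : J) : ϖ j ≠ 0 := by
  intro h0
  have hd : minpoly ℤ (ϖ j) ∣ Polynomial.X :=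
    (minpoly.isIntegrallyClosed_dvd_iff (hint j) _).1 (by rw [Polynomial.aeval_X, h0])
  have hm : minpoly ℤ (ϖ j) = Polynomial.X := by
    refine Polynomial.eq_of_monic_of_associated (minpoly.monic (hint j)) Polynomial.monic_X ?_
    exact ((minpoly.irreducible (hint j)).associated_of_dvd Polynomial.irreducible_X hd)
  have hmem : (0 : ℂ) ∈ (minpoly ℤ (ϖ j)).aroots ℂ := by
    rw [hm, Polynomial.aroots_X]
    exact Multiset.mem_singleton_self 0
  have := hweil j 0 hmem
  rw [norm_zero] at this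
  exact (Real.sqrt_pos.2 (Nat.cast_pos.2 hq)).ne this

theorem isMinimal_of_equiv {k : Type u} [Field k] {B : Over (Spec (CommRingCat.of k))} [GrpObj B] [IsCommMonObj B]
    (πB : B ⟶ B) [IsMonHom πB] (hint : ∀ j, IsIntegral ℤ (ϖ j))
    (hinj : ∀ i j, minpoly ℤ (ϖ i) = minpoly ℤ (ϖ j) → i = j) {q : ℕ} (hq : Nat.card k = q)
    (hne : ∀ j, ϖ j ≠ 0) (ρ : minOrder q ϖ ≃+* EndAV.End B)
    (hρ : ρ ⟨(MvPolynomial.aeval ![fun j => ϖ j, fun j => (q : K j) / ϖ j] : MvPolynomial (Fin 2) ℤ →ₐ[ℤ] ((j : J) → K j))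
      (MvPolynomial.X 0), AlgHom.mem_range_self _ _⟩ = EndAV.End.of πB) :
    IsMinimal B πB (∏ j, minpoly ℤ (ϖ j)) := by
  have e : ∀ f : Polynomial ℤ, Polynomial.aeval (EndAV.End.of πB) f = 0 ↔ ∀ j, Polynomial.aeval (ϖ j) f = 0 := fun f => by
    rw [← hρ]
    refine (aeval_pi_iff _ (AlgHom.mem_range_self _ _) ρ f).trans ?_
    simp
  refine ⟨monic_prodMinpoly hint, squarefree_prodMinpoly hint hinj, comm_of_ringEquiv ρ,
    (e _).2 fun j => ?_, fun f hf => dvd_of_aeval hint hinj ((e f).1 hf),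
    ρ ⟨_, AlgHom.mem_range_self _ (MvPolynomial.X 1)⟩, ?_, fun S h0 h1 y => ?_⟩
  · rw [map_prod]
    exact Finset.prod_eq_zero (Finset.mem_univ j) (minpoly.aeval ℤ (ϖ j))
  · rw [← hρ, ← map_mul, hq, ← map_natCast ρ]
    refine congrArg ρ (Subtype.ext (funext fun j => ?_))
    simp [mul_div_cancel₀ _ (hne j)]
  · obtain ⟨⟨z, F, rfl⟩, rfl⟩ := ρ.surjective y
    induction F using MvPolynomial.induction_on with
    | C a =>
      convert intCast_mem S a using 1
      rw [← map_intCast ρ]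
      exact congrArg ρ (Subtype.ext (by simp))
    | add f g hf hg =>
      convert S.add_mem hf hg using 1
      rw [← map_add]
      exact congrArg ρ (Subtype.ext (map_add _ f g))
    | mul_X f i hf =>
      have hi : ρ ⟨_, AlgHom.mem_range_self _ (MvPolynomial.X i)⟩ ∈ S := by
        fin_cases i
        · exact hρ ▸ h0
        · exact h1
      convert S.mul_mem hf hi using 1
      rw [← map_mul]
      exact congrArg ρ (Subtype.ext (map_mul _ f _))

end Groth.Agent.AVTate
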