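import Groth.Agent.AVTate.MinOrdTate

/-!
Isogenies detected by homomorphisms into an abelian variety with minimal endomorphism ring.
-/

set_option autoImplicit false
set_option backward.isDefEq.respectTransparency false
set_option backward.isDefEq.respectTransparency.types false
set_option linter.unusedSectionVars false
set_option synthInstance.maxHeartbeats 400000
set_option maxHeartbeats 1000000

universe u

open CategoryTheory MonoidalCategory CartesianMonoidalCategory MonObj GrpObj AlgebraicGeometry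

noncomputable section

namespace Groth.Agent.AVTate

variable {k : Type u} [Field k] [Finite k]
variable {A B C : Over (Spec (CommRingCat.of k))}
  [GrpObj A] [IsCommMonObj A] [IsProper A.hom] [GeometricallyIntegral A.hom]
  [GrpObj B] [IsCommMonObj B] [IsProper B.hom] [GeometricallyIntegral B.hom]
  [GrpObj C] [IsCommMonObj C] [IsProper C.hom] [GeometricallyIntegral C.hom]

omit [Finite k] in
theorem hom_free_finite : Module.Free ℤ (EndAV.Hom A B) ∧ Module.Finite ℤ (EndAV.Hom A B) := by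
  haveI : Nonempty A.left := ⟨η[A].left (IsLocalRing.closedPoint k)⟩
  haveI : Nonempty B.left := ⟨η[B].left (IsLocalRing.closedPoint k)⟩
  obtain ⟨g, hg⟩ := AVDeg.exists_dim A
  obtain ⟨g', hg'⟩ := AVDeg.exists_dim B
  exact ⟨(AVDeg.hom_lattice (A := A) (B := B) hg hg').1, (AVDeg.hom_lattice (A := A) (B := B) hg hg').2.1⟩

omit [Finite k] in
/-- An isogeny precomposes injectively, with finite cokernel. -/
theorem precomp_of_isogeny (f : EndAV.Hom B A) [IsFinite f.toHom.left] [Surjective f.toHom.left] :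
    Function.Injective (Preadditive.leftComp (CommGrp.mk C) f) ∧
      Finite (EndAV.Hom B C ⧸ (Preadditive.leftComp (CommGrp.mk C) f).range) := by
  haveI : IsIntegral A.left := GeometricallyIntegral.isIntegral_of_subsingleton A.hom
  haveI : IsIntegral B.left := GeometricallyIntegral.isIntegral_of_subsingleton B.hom
  obtain ⟨v, hv, d, hd, h1, h2⟩ := AgIsog.exists_quasiInverse_of_isFinite f.toHom
  haveI := hv
  obtain ⟨hfr, hfn⟩ := hom_free_finite (A := A) (B := C)
  haveI := hfr
  haveI := hfn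
  obtain ⟨hfr', hfn'⟩ := hom_free_finite (A := B) (B := C)
  haveI := hfr'
  haveI := hfn'
  have key1 : ∀ φ : EndAV.Hom A C, EndAV.Hom.of v ≫ f ≫ φ = d • φ := fun φ => EndAV.Hom.ext (by
    rw [EndAV.Hom.toHom_comp, EndAV.Hom.toHom_comp, EndAV.Hom.toHom_nsmul, EndAV.Hom.toHom_of, ← Category.assoc, h2, MonObj.pow_comp, Category.id_comp])
  have key2 : ∀ ψ : EndAV.Hom B C, f ≫ EndAV.Hom.of v ≫ ψ = d • ψ := fun ψ => EndAV.Hom.ext (by
    rw [EndAV.Hom.toHom_comp, EndAV.Hom.toHom_comp, EndAV.Hom.toHom_nsmul, EndAV.Hom.toHom_of, ← Category.assoc, h1, MonObj.pow_comp, Category.id_comp])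
  refine ⟨(injective_iff_map_eq_zero _).2 fun φ hφ => ?_, ?_⟩
  · have h : (d : ℤ) • φ = 0 := by
      rw [natCast_zsmul, ← key1 φ, show f ≫ φ = 0 from hφ]
      exact Limits.comp_zero
    exact (smul_eq_zero.1 h).resolve_left (Int.natCast_ne_zero.2 hd)
  · haveI : Module.Finite ℤ (EndAV.Hom B C ⧸ (Preadditive.leftComp (CommGrp.mk C) f).range) :=
      Module.Finite.of_surjective (QuotientAddGroup.mk' _).toIntLinearMap (QuotientAddGroup.mk'_surjective _)
    haveI : Module.IsTorsion ℤ (EndAV.Hom B C ⧸ (Preadditive.leftComp (CommGrp.mk C) f).range) := by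
      intro q
      induction q using QuotientAddGroup.induction_on with
      | H ψ =>
        refine ⟨⟨(d : ℤ), mem_nonZeroDivisors_of_ne_zero (Int.natCast_ne_zero.2 hd)⟩, ?_⟩
        show (d : ℤ) • (ψ : EndAV.Hom B C ⧸ (Preadditive.leftComp (CommGrp.mk C) f).range) = 0
        rw [natCast_zsmul, ← QuotientAddGroup.mk_nsmul, QuotientAddGroup.eq_zero_iff]
        exact ⟨EndAV.Hom.of v ≫ ψ, key2 ψ⟩
    exact Module.finite_of_fg_torsion _ ‹_›

/-- **Conversely, precomposition detects isogenies.** -/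
theorem isogeny_of_precomp
    (πA : A ⟶ A) [IsMonHom πA] (hAb : πA.left.base = 𝟙 _) (hAle : ∀ U : A.left.Opens, U ≤ πA.left ⁻¹ᵁ U)
    (hAapp : ∀ (U : A.left.Opens) (s : Γ(A.left, U)), (πA.left.appLE U U (hAle U)).hom s = s ^ Nat.card k)
    (πB : B ⟶ B) [IsMonHom πB] (hBb : πB.left.base = 𝟙 _) (hBle : ∀ U : B.left.Opens, U ≤ πB.left ⁻¹ᵁ U)
    (hBapp : ∀ (U : B.left.Opens) (s : Γ(B.left, U)), (πB.left.appLE U U (hBle U)).hom s = s ^ Nat.card k)
    (πC : C ⟶ C) [IsMonHom πC] (hCb : πC.left.base = 𝟙 _) (hCle : ∀ U : C.left.Opens, U ≤ πC.left ⁻¹ᵁ U)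
    (hCapp : ∀ (U : C.left.Opens) (s : Γ(C.left, U)), (πC.left.appLE U U (hCle U)).hom s = s ^ Nat.card k)
    {m : Polynomial ℤ} (hmin : IsMinimal C πC m) (hA : Polynomial.aeval (EndAV.End.of πA) m = 0)
    (hB : Polynomial.aeval (EndAV.End.of πB) m = 0) (f : EndAV.Hom B A)
    (hinj : Function.Injective (Preadditive.leftComp (CommGrp.mk C) f))
    (hfin : Finite (EndAV.Hom B C ⧸ (Preadditive.leftComp (CommGrp.mk C) f).range)) :
    IsFinite f.toHom.left ∧ Surjective f.toHom.left := by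
  obtain ⟨l, hlk, hlp⟩ := Nat.exists_infinite_primes (max 2 (ringChar k + 1))
  haveI := Fact.mk hlp
  have hl : (l : k) ≠ 0 := fun h => by
    haveI := CharP.char_is_prime k (ringChar k)
    have := (Nat.prime_dvd_prime_iff_eq (CharP.char_is_prime k (ringChar k)) hlp).1 ((ringChar.spec k l).1 h)
    omega
  let Ω := AlgebraicClosure k
  obtain ⟨hfr, hfn⟩ := hom_free_finite (A := A) (B := C)
  haveI := hfr
  haveI := hfn
  obtain ⟨hfr', hfn'⟩ := hom_free_finite (A := B) (B := C)
  haveI := hfr'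
  haveI := hfn'
  let N := Nat.card (EndAV.Hom B C ⧸ (Preadditive.leftComp (CommGrp.mk C) f).range)
  have hN : N ≠ 0 := Nat.card_pos.ne'
  have hdiv : ∀ ψ : EndAV.Hom B C, N • ψ ∈ (Preadditive.leftComp (CommGrp.mk C) f).range := fun ψ => by
    rw [← QuotientAddGroup.eq_zero_iff, QuotientAddGroup.mk_nsmul]
    exact addOrderOf_dvd_iff_nsmul_eq_zero.1 (addOrderOf_dvd_natCard _)
  -- the Tate module map is injective
  have hinjT : Function.Injective (AbDual.tateMapₗ (l := l) (T := SGA7.pt (K := k) Ω) f.toHom) := by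
    intro x y hxy
    refine tate_sep Ω πC hCb hCle hCapp hmin hl πB hBb hBle hBapp hB x y fun ψ => ?_
    obtain ⟨χ, hχ⟩ := hdiv ψ
    obtain ⟨hfrT, hfnT⟩ := tate_finite_free (X := C) Ω (l := l) hl
    haveI := hfrT
    haveI := hfnT
    have e : ∀ z, (N : ℤ_[l]) • EndAV.Hom.tateMap l (SGA7.pt (K := k) Ω) ψ z =
        EndAV.Hom.tateMap l (SGA7.pt (K := k) Ω) χ (AbDual.tateMapₗ (l := l) (T := SGA7.pt (K := k) Ω) f.toHom z) := by
      intro z
      rw [Nat.cast_smul_eq_nsmul, ← LinearMap.smul_apply, ← map_nsmul, ← hχ]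
      exact LinearMap.congr_fun (AVQuot.tateMapₗ_comp' f.toHom (EndAV.Hom.toHom χ)) z
    refine smul_right_injective _ (Nat.cast_ne_zero.2 hN : (N : ℤ_[l]) ≠ 0) ?_
    exact (e x).trans ((congrArg _ hxy).trans (e y).symm)
  haveI : IsFinite f.toHom.left := by
    refine (AVDeg.isFinite_bcMap_iff Ω f.toHom).1 ?_
    refine AVDeg.isFinite_of_injective_tate (l := l) (AVDeg.ne_zero_bc Ω hl) (AVDeg.homBC Ω f).toHom ?_
    have hcomp : (AbDual.tateMapₗ (l := l) (T := AVDeg.one' Ω) (AVDeg.homBC Ω f).toHom : _ → _) =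
        (AVDeg.tateBC (A := A) (l := l) Ω) ∘ AbDual.tateMapₗ (T := SGA7.pt (K := k) Ω) f.toHom ∘
          (AVDeg.tateBC (A := B) (l := l) Ω).symm := funext fun y => by
      refine Eq.trans ?_ (AVDeg.tateBC_tateMap Ω f ((AVDeg.tateBC Ω).symm y)).symm
      rw [LinearEquiv.apply_symm_apply]
      rfl
    rw [hcomp]
    exact (LinearEquiv.injective _).comp (hinjT.comp (LinearEquiv.injective _))
  refine ⟨‹_›, ?_⟩
  haveI : Nonempty A.left := ⟨η[A].left (IsLocalRing.closedPoint k)⟩
  haveI : Nonempty B.left := ⟨η[B].left (IsLocalRing.closedPoint k)⟩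
  obtain ⟨gA, hgA⟩ := AVDeg.exists_dim A
  obtain ⟨gB, hgB⟩ := AVDeg.exists_dim B
  have rA := finrank_hom_of_minimal πA hAb hAle hAapp πC hCb hCle hCapp hmin.monic hmin.sqfree hA hmin.comm hmin.zero
    hmin.min hgA
  have rB := finrank_hom_of_minimal πB hBb hBle hBapp πC hCb hCle hCapp hmin.monic hmin.sqfree hB hmin.comm hmin.zero
    hmin.min hgB
  have h1 := LinearMap.finrank_le_finrank_of_injective (f := (Preadditive.leftComp (CommGrp.mk C) f).toIntLinearMap) hinj
  have h2 : Module.finrank ℤ (EndAV.Hom B C) ≤ Module.finrank ℤ (EndAV.Hom A C) := by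
    let L := (Preadditive.leftComp (CommGrp.mk C) f).toIntLinearMap
    let E := LinearEquiv.ofInjective L hinj
    let M : EndAV.Hom B C →ₗ[ℤ] LinearMap.range L :=
      ((N : ℤ) • LinearMap.id).codRestrict _ fun ψ => by
        show (N : ℤ) • ψ ∈ LinearMap.range L
        rw [natCast_zsmul]
        exact hdiv ψ
    refine LinearMap.finrank_le_finrank_of_injective (f := E.symm.toLinearMap ∘ₗ M) (E.symm.injective.comp ?_)
    intro a b hab
    exact smul_right_injective _ (Int.natCast_ne_zero.2 hN) (congrArg Subtype.val hab)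
  have hdim : topologicalKrullDim B.left = topologicalKrullDim A.left := by
    have hM := rA ▸ rB ▸ h2
    have hM' := rA ▸ rB ▸ h1
    rw [hgA, hgB, show gA = gB by omega]
  haveI : IsIntegral A.left := GeometricallyIntegral.isIntegral_of_subsingleton A.hom
  haveI : IsIntegral B.left := GeometricallyIntegral.isIntegral_of_subsingleton B.hom
  exact GrpField.surjective_of_isFinite f.toHom hdim

end Groth.Agent.AVTate
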