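import Groth.Agent.AVTate.MinOrd
import Groth.Agent.AVTate.Isog
import Groth.Agent.AVTate.Split
import Groth.Agent.LinAlg.Monogenic

/-!
Tate modules of abelian varieties with endomorphism ring `ℤ[π, q/π]`.
-/

set_option autoImplicit false
set_option backward.isDefEq.respectTransparency false
set_option backward.isDefEq.respectTransparency.types false
set_option linter.unusedSectionVars false
set_option synthInstance.maxHeartbeats 400000
set_option maxHeartbeats 1000000

universe u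

open CategoryTheory MonoidalCategory CartesianMonoidalCategory MonObj GrpObj AlgebraicGeometry
open scoped TensorProduct
open Groth.Agent.LinAlg

noncomputable section

namespace Groth.Agent.AVTate

variable {k : Type u} [Field k]
variable {A B : Over (Spec (CommRingCat.of k))}
  [GrpObj A] [IsCommMonObj A] [IsProper A.hom] [GeometricallyIntegral A.hom]
  [GrpObj B] [IsCommMonObj B] [IsProper B.hom] [GeometricallyIntegral B.hom]

/-- `End B` is the minimal order `ℤ[π, q/π]`, and `m` is the minimal polynomial of `π`. -/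
structure IsMinimal (B : Over (Spec (CommRingCat.of k))) [GrpObj B] [IsCommMonObj B] (πB : B ⟶ B) [IsMonHom πB]
    (m : Polynomial ℤ) : Prop where
  monic : m.Monic
  sqfree : Squarefree (m.map (Int.castRingHom ℚ))
  comm : ∀ x y : EndAV.End B, x * y = y * x
  zero : Polynomial.aeval (EndAV.End.of πB) m = 0
  min : ∀ q : Polynomial ℤ, Polynomial.aeval (EndAV.End.of πB) q = 0 →
    m.map (Int.castRingHom ℚ) ∣ q.map (Int.castRingHom ℚ)
  gen : ∃ ν : EndAV.End B, EndAV.End.of πB * ν = (Nat.card k : EndAV.End B) ∧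
    ∀ S : Subring (EndAV.End B), EndAV.End.of πB ∈ S → ν ∈ S → ∀ y, y ∈ S

theorem aeval_tateRep {l : ℕ} [Fact l.Prime] {T : Over (Spec (CommRingCat.of k))} (φ : EndAV.End A) (q : Polynomial ℤ) :
    Polynomial.aeval (EndAV.End.tateRep l T φ) (q.map (Int.castRingHom ℤ_[l])) =
      EndAV.End.tateRep l T (Polynomial.aeval φ q) := by
  rw [Polynomial.aeval_def, Polynomial.eval₂_map, Polynomial.aeval_def, Polynomial.hom_eval₂]
  exact congrArg (fun f => Polynomial.eval₂ f _ q) (RingHom.ext_int _ _)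

theorem tateRep_of {l : ℕ} [Fact l.Prime] {T : Over (Spec (CommRingCat.of k))} (φ : A ⟶ A) [IsMonHom φ] :
    EndAV.End.tateRep l T (EndAV.End.of φ) = AbDual.tateMapₗ (l := l) (T := T) φ := rfl

variable (Ω : Type u) [Field Ω] [Algebra k Ω] {l : ℕ} [Fact l.Prime]

theorem finrank_T [IsAlgClosed Ω] (hl : (l : k) ≠ 0) {g : ℕ} (hg : topologicalKrullDim A.left = (g : WithBot ℕ∞))
    [Module.Free ℤ_[l] (AbDual.TateMod A l (SGA7.pt (K := k) Ω))]
    [Module.Finite ℤ_[l] (AbDual.TateMod A l (SGA7.pt (K := k) Ω))] :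
    Module.finrank ℤ_[l] (AbDual.TateMod A l (SGA7.pt (K := k) Ω)) = 2 * g :=
  Module.finrank_baseChange.symm.trans (finrank_V (X := A) (Ω := Ω) hl hg)

section Frob

variable [Finite k] [IsAlgClosure k Ω]
  (πB : B ⟶ B) [IsMonHom πB] (hBb : πB.left.base = 𝟙 _) (hBle : ∀ U : B.left.Opens, U ≤ πB.left ⁻¹ᵁ U)
  (hBapp : ∀ (U : B.left.Opens) (s : Γ(B.left, U)), (πB.left.appLE U U (hBle U)).hom s = s ^ Nat.card k)
  {m : Polynomial ℤ} (hmin : IsMinimal B πB m) (hl : (l : k) ≠ 0)

include hBb hBapp hmin in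
theorem natDegree_eq {g : ℕ} (hg : topologicalKrullDim B.left = (g : WithBot ℕ∞)) : m.natDegree = 2 * g :=
  (finrank_end_of_comm πB hBb hBle hBapp hmin.comm hmin.monic hmin.zero hmin.min).symm.trans
    (finrank_hom_of_minimal πB hBb hBle hBapp πB hBb hBle hBapp hmin.monic hmin.sqfree hmin.zero
      hmin.comm hmin.zero hmin.min hg)

include hBb hBapp hmin in
theorem natDegree_eq_finrank [IsAlgClosed Ω] [Module.Free ℤ_[l] (AbDual.TateMod B l (SGA7.pt (K := k) Ω))]
    [Module.Finite ℤ_[l] (AbDual.TateMod B l (SGA7.pt (K := k) Ω))] (hl : (l : k) ≠ 0) :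
    (m.map (Int.castRingHom ℤ_[l])).natDegree = Module.finrank ℤ_[l] (AbDual.TateMod B l (SGA7.pt (K := k) Ω)) := by
  haveI : Nonempty B.left := ⟨η[B].left (IsLocalRing.closedPoint k)⟩
  obtain ⟨g, hg⟩ := AVDeg.exists_dim B
  rw [hmin.monic.natDegree_map, natDegree_eq πB hBb hBle hBapp hmin hg, finrank_T Ω hl hg]

include hmin hl in
/-- Every endomorphism acts on the Tate module as a polynomial in Frobenius. -/
theorem tateRep_mem_adjoin [Module.Free ℤ_[l] (AbDual.TateMod B l (SGA7.pt (K := k) Ω))]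
    [Module.Finite ℤ_[l] (AbDual.TateMod B l (SGA7.pt (K := k) Ω))] (y : EndAV.End B) :
    EndAV.End.tateRep l (SGA7.pt (K := k) Ω) y ∈
      Algebra.adjoin ℤ_[l] {EndAV.End.tateRep l (SGA7.pt (K := k) Ω) (EndAV.End.of πB)} := by
  obtain ⟨ν, hν, hgen⟩ := hmin.gen
  let P := EndAV.End.tateRep l (SGA7.pt (K := k) Ω) (EndAV.End.of πB)
  let S := Algebra.adjoin ℤ_[l] {P}
  refine hgen (S.toSubring.comap (EndAV.End.tateRep l (SGA7.pt (K := k) Ω))) (Algebra.subset_adjoin rfl) ?_ y
  show EndAV.End.tateRep l (SGA7.pt (K := k) Ω) ν ∈ S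
  -- `q` is a unit in `ℤ_l`
  have hq : IsUnit ((Nat.card k : ℕ) : ℤ_[l]) := by
    obtain ⟨p, hp⟩ := CharP.exists k
    haveI := Fintype.ofFinite k
    obtain ⟨e, hpr, hcard⟩ := FiniteField.card k p
    rw [Nat.card_eq_fintype_card, hcard, Nat.cast_pow]
    refine IsUnit.pow _ (PadicInt.isUnit_iff.2 (PadicInt.norm_natCast_eq_one_iff.2 ?_))
    refine ((Nat.coprime_primes (Fact.out : l.Prime) hpr).2 fun h => hl (h ▸ CharP.cast_eq_zero k p))
  obtain ⟨c, hc⟩ := hq
  have h1 : P * EndAV.End.tateRep l (SGA7.pt (K := k) Ω) ν = ((c : ℤ_[l]) • 1) := by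
    rw [← map_mul, hν, map_natCast, hc, Nat.cast_smul_eq_nsmul, nsmul_one]
  have hPu : IsUnit P := by
    refine (Module.End.isUnit_iff _).2 (OrzechProperty.bijective_of_surjective_endomorphism _ fun z => ?_)
    refine ⟨EndAV.End.tateRep l (SGA7.pt (K := k) Ω) ν ((↑c⁻¹ : ℤ_[l]) • z), ?_⟩
    rw [← Module.End.mul_apply, h1, LinearMap.smul_apply, Module.End.one_apply, smul_smul, Units.mul_inv, one_smul]
  -- Cayley-Hamilton
  obtain ⟨h, hh⟩ : ∃ h : Polynomial ℤ_[l], P.charpoly = Polynomial.X * h + Polynomial.C (P.charpoly.coeff 0) :=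
    ⟨P.charpoly.divX, (Polynomial.X_mul_divX_add P.charpoly).symm⟩
  have hu : IsUnit (P.charpoly.coeff 0) := by
    have hd : IsUnit (LinearMap.det P) := hPu.map LinearMap.det
    rw [LinearMap.det_eq_sign_charpoly_coeff] at hd
    exact isUnit_of_mul_isUnit_right hd
  obtain ⟨c₀, hc₀⟩ := hu
  have h2 : P * (-(↑c₀⁻¹ : ℤ_[l]) • Polynomial.aeval P h) = 1 := by
    have h0 := LinearMap.aeval_self_charpoly P
    rw [hh, map_add, map_mul, Polynomial.aeval_X, Polynomial.aeval_C, ← hc₀, Algebra.algebraMap_eq_smul_one,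
      add_eq_zero_iff_eq_neg] at h0
    rw [mul_smul_comm, h0, smul_neg, neg_smul, neg_neg, smul_smul, Units.inv_mul, one_smul]
  have h3 : EndAV.End.tateRep l (SGA7.pt (K := k) Ω) ν = (c : ℤ_[l]) • (-(↑c₀⁻¹ : ℤ_[l]) • Polynomial.aeval P h) := by
    refine hPu.mul_left_cancel ?_
    rw [h1, mul_smul_comm, h2]
  rw [h3]
  exact Subalgebra.smul_mem _ (Subalgebra.smul_mem _ (Polynomial.aeval_mem_adjoin_singleton _ _) _) _

include hBb hBapp hmin hl in
/-- **The Tate module is cyclic over `ℤ_l[π]`.** -/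
theorem exists_tate_generator [IsAlgClosed Ω] [Module.Free ℤ_[l] (AbDual.TateMod B l (SGA7.pt (K := k) Ω))]
    [Module.Finite ℤ_[l] (AbDual.TateMod B l (SGA7.pt (K := k) Ω))] :
    ∃ (x : AbDual.TateMod B l (SGA7.pt (K := k) Ω))
      (b : Module.Basis (Fin (Module.finrank ℤ_[l] (AbDual.TateMod B l (SGA7.pt (K := k) Ω)))) ℤ_[l]
        (AbDual.TateMod B l (SGA7.pt (K := k) Ω))),
      ∀ i, b i = ((EndAV.End.tateRep l (SGA7.pt (K := k) Ω) (EndAV.End.of πB)) ^ (i : ℕ)) x := by
  refine Monogenic.exists_generator PadicInt.maximalIdeal_eq_span_p (Nat.cast_ne_zero.2 (Fact.out : l.Prime).ne_zero) _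
    (hmin.monic.map (Int.castRingHom ℤ_[l])) (natDegree_eq_finrank Ω πB hBb hBle hBapp hmin hl)
    (by rw [aeval_tateRep, hmin.zero, map_zero]) (fun q hq hqd => ?_) fun Q hQ => ?_
  · -- independence of the powers of Frobenius
    let n := m.natDegree
    have hind : LinearIndependent ℤ fun i : Fin n => (EndAV.End.of πB) ^ (i : ℕ) := by
      refine Fintype.linearIndependent_iff.2 fun c hc i => ?_
      let r : Polynomial ℤ := ∑ i : Fin n, Polynomial.C (c i) * Polynomial.X ^ (i : ℕ)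
      have hr : Polynomial.aeval (EndAV.End.of πB) r = 0 := by
        rw [map_sum]
        simp only [map_mul, map_pow, Polynomial.aeval_X, Polynomial.aeval_C, ← Algebra.smul_def]
        exact hc
      have hr0 : r.map (Int.castRingHom ℚ) = 0 := by
        by_contra h0
        have := Polynomial.degree_le_of_dvd (hmin.min r hr) h0
        rw [hmin.monic.degree_map] at this
        refine not_lt.2 (this.trans Polynomial.degree_map_le) ?_
        rw [Polynomial.degree_eq_natDegree hmin.monic.ne_zero]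
        exact Polynomial.degree_sum_fin_lt c
      have := congrArg (fun p : Polynomial ℚ => p.coeff i) hr0
      simpa [r, Polynomial.coeff_map, Polynomial.finset_sum_coeff, Polynomial.coeff_C_mul, Polynomial.coeff_X_pow,
        Fin.val_inj] using this
    have hli := AVDeg.linearIndependent_tateMap' (l := l) (A := B) (B := B) Ω hl _ hind
    have hli' : LinearIndependent ℤ_[l] fun i : Fin n =>
        (EndAV.End.tateRep l (SGA7.pt (K := k) Ω) (EndAV.End.of πB)) ^ (i : ℕ) := by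
      convert hli using 1
      exact funext fun i => (map_pow (EndAV.End.tateRep l (SGA7.pt (K := k) Ω)) (EndAV.End.of πB) i).symm
    by_cases hq0 : q = 0
    · exact hq0
    have hqn : q.natDegree < n := by
      rw [hmin.monic.degree_map, Polynomial.degree_eq_natDegree hq0,
        Polynomial.degree_eq_natDegree hmin.monic.ne_zero] at hqd
      exact_mod_cast hqd
    rw [Polynomial.aeval_eq_sum_range' hqn, Finset.sum_range] at hq
    have hz := Fintype.linearIndependent_iff.1 hli' (fun i => q.coeff i) hq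
    exact Polynomial.ext fun i => by
      rw [Polynomial.coeff_zero]
      by_cases hi : i < n
      · exact hz ⟨i, hi⟩
      · exact Polynomial.coeff_eq_zero_of_natDegree_lt (by omega)
  · -- the commutant
    have hQ' := mem_span_of_comm (A := B) (B := B) Ω hl πB hBb hBle hBapp πB hBb hBle hBapp Q hQ
    have hle : Submodule.span ℤ_[l] (Set.range (EndAV.Hom.tateMap (A := B) (B := B) l (SGA7.pt (K := k) Ω))) ≤
        Subalgebra.toSubmodule (Algebra.adjoin ℤ_[l] {EndAV.End.tateRep l (SGA7.pt (K := k) Ω) (EndAV.End.of πB)}) := by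
      refine Submodule.span_le.2 ?_
      rintro _ ⟨y, rfl⟩
      exact tateRep_mem_adjoin Ω πB hmin hl y
    have := hle hQ'
    rw [Subalgebra.mem_toSubmodule, Algebra.adjoin_singleton_eq_range_aeval] at this
    obtain ⟨h, rfl⟩ := this
    exact ⟨h, rfl⟩

include hBb hBapp hmin hl in
/-- The images of a basis of `End B` at a generator form a basis of the Tate module. -/
theorem exists_generator_end [IsAlgClosed Ω] [Module.Free ℤ_[l] (AbDual.TateMod B l (SGA7.pt (K := k) Ω))]
    [Module.Finite ℤ_[l] (AbDual.TateMod B l (SGA7.pt (K := k) Ω))] :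
    ∃ x : AbDual.TateMod B l (SGA7.pt (K := k) Ω), ∀ (n : ℕ) (e : Module.Basis (Fin n) ℤ (EndAV.End B)),
      LinearIndependent ℤ_[l] (fun i => EndAV.End.tateRep l (SGA7.pt (K := k) Ω) (e i) x) ∧
        Submodule.span ℤ_[l] (Set.range fun i => EndAV.End.tateRep l (SGA7.pt (K := k) Ω) (e i) x) = ⊤ := by
  obtain ⟨x, b, hb⟩ := exists_tate_generator Ω πB hBb hBle hBapp hmin hl
  refine ⟨x, fun n e => ?_⟩
  have hspan : Submodule.span ℤ_[l] (Set.range fun i => EndAV.End.tateRep l (SGA7.pt (K := k) Ω) (e i) x) = ⊤ := by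
    rw [eq_top_iff, ← b.span_eq]
    refine Submodule.span_le.2 ?_
    rintro _ ⟨j, rfl⟩
    rw [hb, ← map_pow, ← e.sum_repr ((EndAV.End.of πB) ^ (j : ℕ)), map_sum, LinearMap.sum_apply]
    exact Submodule.sum_mem _ fun i _ => by
      rw [map_zsmul, LinearMap.smul_apply]
      exact zsmul_mem (Submodule.subset_span (Set.mem_range_self i)) _
  refine ⟨linearIndependent_of_top_le_span_of_card_eq_finrank hspan.ge ?_, hspan⟩
  rw [Fintype.card_fin, ← natDegree_eq_finrank Ω πB hBb hBle hBapp hmin hl, hmin.monic.natDegree_map,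
    ← finrank_end_of_comm πB hBb hBle hBapp hmin.comm hmin.monic hmin.zero hmin.min,
    Module.finrank_eq_card_basis e, Fintype.card_fin]

variable (πA : A ⟶ A) [IsMonHom πA] (hAb : πA.left.base = 𝟙 _) (hAle : ∀ U : A.left.Opens, U ≤ πA.left ⁻¹ᵁ U)
  (hAapp : ∀ (U : A.left.Opens) (s : Γ(A.left, U)), (πA.left.appLE U U (hAle U)).hom s = s ^ Nat.card k)
  (hA : Polynomial.aeval (EndAV.End.of πA) m = 0)

include hBb hBapp hmin hl hAb hAapp hA in
/-- Homomorphisms into `B` separate the points of the Tate module. -/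
theorem tate_sep [IsAlgClosed Ω] (x y : AbDual.TateMod A l (SGA7.pt (K := k) Ω))
    (h : ∀ φ : EndAV.Hom A B, EndAV.Hom.tateMap l (SGA7.pt (K := k) Ω) φ x = EndAV.Hom.tateMap l (SGA7.pt (K := k) Ω) φ y) :
    x = y := by
  obtain ⟨hfA, hrA⟩ := tate_finite_free (X := A) Ω (l := l) hl
  obtain ⟨hfB, hrB⟩ := tate_finite_free (X := B) Ω (l := l) hl
  haveI := hfA
  haveI := hrA
  haveI := hfB
  haveI := hrB
  obtain ⟨v, b, hb⟩ := exists_tate_generator Ω πB hBb hBle hBapp hmin hl
  have hdeg := natDegree_eq_finrank Ω πB hBb hBle hBapp hmin hl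
  refine sub_eq_zero.1 ((Module.forall_dual_apply_eq_zero_iff ℤ_[l] _).1 fun ψ => ?_)
  obtain ⟨φ, hφ, rfl⟩ := Monogenic.exists_intertwiner _ b hb (EndAV.End.tateRep l (SGA7.pt (K := k) Ω) (EndAV.End.of πA))
    (hmin.monic.map (Int.castRingHom ℤ_[l])) hdeg (by rw [aeval_tateRep, hmin.zero, map_zero])
    (by rw [aeval_tateRep, hA, map_zero]) ψ
  have hs := mem_span_of_comm (A := A) (B := B) Ω hl πA hAb hAle hAapp πB hBb hBle hBapp φ hφ
  have hz : φ (x - y) = 0 := by
    refine Submodule.span_induction (p := fun w _ => w (x - y) = 0) ?_ rfl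
      (fun a c _ _ ha hc => by rw [LinearMap.add_apply, ha, hc, add_zero])
      (fun r a _ ha => by rw [LinearMap.smul_apply, ha, smul_zero]) hs
    rintro _ ⟨f, rfl⟩
    rw [map_sub, h f, sub_self]
  rw [LinearMap.comp_apply, hz, map_zero]

include hBb hBapp hmin hl hAb hAapp hA in
/-- **Bidual.** -/
theorem tate_bidual [IsAlgClosed Ω] (g : EndAV.Hom A B →+ AbDual.TateMod B l (SGA7.pt (K := k) Ω))
    (hg : ∀ (φ : EndAV.Hom A B) (s : EndAV.End B), g (φ ≫ s) = EndAV.End.tateRep l (SGA7.pt (K := k) Ω) s (g φ)) :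
    ∃ x : AbDual.TateMod A l (SGA7.pt (K := k) Ω), ∀ φ : EndAV.Hom A B,
      g φ = EndAV.Hom.tateMap l (SGA7.pt (K := k) Ω) φ x := by
  obtain ⟨hfA, hrA⟩ := tate_finite_free (X := A) Ω (l := l) hl
  obtain ⟨hfB, hrB⟩ := tate_finite_free (X := B) Ω (l := l) hl
  haveI := hfA
  haveI := hrA
  haveI := hfB
  haveI := hrB
  obtain ⟨v, b, hb⟩ := exists_tate_generator Ω πB hBb hBle hBapp hmin hl
  have hdeg := natDegree_eq_finrank Ω πB hBb hBle hBapp hmin hl
  haveI : Nonempty A.left := ⟨η[A].left (IsLocalRing.closedPoint k)⟩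
  haveI : Nonempty B.left := ⟨η[B].left (IsLocalRing.closedPoint k)⟩
  obtain ⟨gA, hgA⟩ := AVDeg.exists_dim A
  obtain ⟨gB, hgB⟩ := AVDeg.exists_dim B
  obtain ⟨hfree, hfin, -⟩ := AVDeg.hom_lattice (A := A) (B := B) hgA hgB
  haveI := hfree
  haveI := hfin
  let H := Module.finBasis ℤ (EndAV.Hom A B)
  let T := EndAV.Hom.tateMap (A := A) (B := B) l (SGA7.pt (K := k) Ω)
  have hli : LinearIndependent ℤ_[l] fun i => T (H i) :=
    AVDeg.linearIndependent_tateMap' (l := l) (A := A) (B := B) Ω hl _ H.linearIndependent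
  let W := Submodule.span ℤ_[l] (Set.range fun i => T (H i))
  let bW : Module.Basis _ ℤ_[l] W := Module.Basis.span hli
  let G : W →ₗ[ℤ_[l]] AbDual.TateMod B l (SGA7.pt (K := k) Ω) := bW.constr ℤ_[l] fun i => g (H i)
  have hT : ∀ f : EndAV.Hom A B, T f ∈ W := fun f => by
    rw [← H.sum_repr f, map_sum]
    exact Submodule.sum_mem _ fun i _ => by
      rw [map_zsmul]
      exact zsmul_mem (Submodule.subset_span (Set.mem_range_self i)) _
  have hGT : ∀ f : EndAV.Hom A B, G ⟨T f, hT f⟩ = g f := by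
    let G' : EndAV.Hom A B →+ AbDual.TateMod B l (SGA7.pt (K := k) Ω) :=
      G.toAddMonoidHom.comp (T.codRestrict W hT)
    suffices G'.toIntLinearMap = g.toIntLinearMap from fun f => LinearMap.congr_fun this f
    refine H.ext fun i => ?_
    show G ⟨T (H i), hT _⟩ = g (H i)
    rw [show (⟨T (H i), hT _⟩ : W) = bW i from
      Subtype.ext (congrArg Subtype.val (Module.Basis.span_apply hli i)).symm]
    exact bW.constr_basis ℤ_[l] _ i
  have hW : ∀ φ : AbDual.TateMod A l (SGA7.pt (K := k) Ω) →ₗ[ℤ_[l]] AbDual.TateMod B l (SGA7.pt (K := k) Ω),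
      φ ∈ W ↔ φ ∘ₗ EndAV.End.tateRep l (SGA7.pt (K := k) Ω) (EndAV.End.of πA) =
        EndAV.End.tateRep l (SGA7.pt (K := k) Ω) (EndAV.End.of πB) ∘ₗ φ := by
    intro φ
    constructor
    · intro hφ
      refine Submodule.span_induction (p := fun w _ => w ∘ₗ EndAV.End.tateRep l (SGA7.pt (K := k) Ω) (EndAV.End.of πA) =
        EndAV.End.tateRep l (SGA7.pt (K := k) Ω) (EndAV.End.of πB) ∘ₗ w) ?_
        (by rw [LinearMap.zero_comp, LinearMap.comp_zero])
        (fun a c _ _ ha hc => by rw [LinearMap.add_comp, LinearMap.comp_add, ha, hc])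
        (fun r a _ ha => by rw [LinearMap.smul_comp, LinearMap.comp_smul, ha]) hφ
      rintro _ ⟨i, rfl⟩
      show AbDual.tateMapₗ (H i).toHom ∘ₗ AbDual.tateMapₗ πA = AbDual.tateMapₗ πB ∘ₗ AbDual.tateMapₗ (H i).toHom
      rw [← AVQuot.tateMapₗ_comp', ← AVQuot.tateMapₗ_comp']
      exact AVQuot.tateMapₗ_congr _ _ (AVDeg.frob_comm πA hAb hAle hAapp πB hBb hBle hBapp (H i).toHom)
    · intro hφ
      refine Submodule.span_le.2 ?_ (mem_span_of_comm (A := A) (B := B) Ω hl πA hAb hAle hAapp πB hBb hBle hBapp φ hφ)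
      rintro _ ⟨f, rfl⟩
      exact hT f
  let P := EndAV.End.tateRep l (SGA7.pt (K := k) Ω) (EndAV.End.of πB)
  have hG : ∀ φ ψ : W, (ψ : AbDual.TateMod A l (SGA7.pt (K := k) Ω) →ₗ[ℤ_[l]] _) =
      P ∘ₗ (φ : AbDual.TateMod A l (SGA7.pt (K := k) Ω) →ₗ[ℤ_[l]] _) → G ψ = P (G φ) := by
    have hb' : ∀ i, bW i = ⟨T (H i), hT _⟩ := fun i => Module.Basis.span_apply hli i
    have hc : ∀ i, P ∘ₗ T (H i) = T (H i ≫ EndAV.Hom.of πB) := fun i =>
      (AVQuot.tateMapₗ_comp' (H i).toHom πB).symm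
    intro φ ψ h
    have hψ : ψ = ∑ i, bW.repr φ i • (⟨T (H i ≫ EndAV.Hom.of πB), hT _⟩ : W) := by
      apply Subtype.ext
      rw [h, Submodule.coe_sum]
      conv_lhs => rw [← bW.sum_repr φ, Submodule.coe_sum]
      refine LinearMap.ext fun a => ?_
      simp only [LinearMap.comp_apply, LinearMap.sum_apply, map_sum, Submodule.coe_smul, LinearMap.smul_apply,
        map_smul, hb']
      exact Finset.sum_congr rfl fun i _ => congrArg _ (LinearMap.congr_fun (hc i) a)
    rw [hψ, map_sum]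
    conv_rhs => rw [← bW.sum_repr φ, map_sum, map_sum]
    refine Finset.sum_congr rfl fun i _ => ?_
    rw [map_smul, map_smul, map_smul, hGT, hb', hGT]
    exact congrArg _ (hg (H i) (EndAV.End.of πB))
  obtain ⟨a, ha⟩ := Monogenic.exists_eval _ b hb (EndAV.End.tateRep l (SGA7.pt (K := k) Ω) (EndAV.End.of πA))
    (hmin.monic.map (Int.castRingHom ℤ_[l])) hdeg (by rw [aeval_tateRep, hmin.zero, map_zero])
    (by rw [aeval_tateRep, hA, map_zero]) hW G hG
  exact ⟨a, fun φ => (hGT φ).symm.trans (ha ⟨T φ, hT φ⟩)⟩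

end Frob

end Groth.Agent.AVTate
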