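import Groth.Agent.AVTheta.FrobPt
import Groth.Agent.AVQuot.TateArg
import Groth.Agent.FEtRank.Count
import Mathlib.FieldTheory.IntermediateField.Adjoin.Basic
import Mathlib.FieldTheory.Normal.Basic

/-!
# Galois orbits of geometric points over finite fields; degrees as numbers of points
-/

set_option autoImplicit false
set_option backward.isDefEq.respectTransparency false
set_option backward.isDefEq.respectTransparency.types false
set_option linter.style.haveILetI false
set_option linter.unusedSectionVars false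
set_option maxHeartbeats 1000000

universe u

open CategoryTheory CategoryTheory.Limits MonoidalCategory CartesianMonoidalCategory MonObj GrpObj AlgebraicGeometry

noncomputable section

namespace Groth.Agent.AVTate

variable {k Ω : Type u} [Field k] [Field Ω] [Algebra k Ω]

theorem specAut_mul' (σ τ : Ω ≃ₐ[k] Ω) :
    SGA7.specAut (σ * τ) = SGA7.specAut σ ≫ SGA7.specAut τ := by
  refine Over.OverMorphism.ext ?_
  show Spec.map _ = Spec.map _ ≫ Spec.map _
  rw [← Spec.map_comp]
  rfl

theorem specAut_one' : SGA7.specAut (1 : Ω ≃ₐ[k] Ω) = 𝟙 _ := by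
  refine Over.OverMorphism.ext ?_
  show Spec.map _ = 𝟙 _
  rw [← Spec.map_id]
  rfl

/-- On a finite scheme an automorphism acts like a power of Frobenius. -/
theorem exists_pow_galAct_finite [Finite k] [IsAlgClosure k Ω] {σ : Ω ≃ₐ[k] Ω} (hσ : ∀ a : Ω, σ a = a ^ Nat.card k)
    {Z : Over (Spec (CommRingCat.of k))} [IsFinite Z.hom] (τ : Ω ≃ₐ[k] Ω) (x : SGA7.pt (K := k) Ω ⟶ Z) :
    ∃ i : ℕ, SGA7.galAct τ x = SGA7.galAct (σ ^ i) x := by
  haveI : Algebra.IsAlgebraic k Ω := IsAlgClosure.isAlgebraic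
  haveI := Fintype.ofFinite k
  haveI : IsAffine Z.left := isAffine_of_isAffineHom Z.hom
  let φ : Γ(Z.left, ⊤) →+* Ω :=
    (Scheme.ΓSpecIso (CommRingCat.of Ω)).hom.hom.comp x.left.appTop.hom
  let a : k →+* Γ(Z.left, ⊤) := Z.hom.appTop.hom.comp (Scheme.ΓSpecIso (CommRingCat.of k)).inv.hom
  have hcomp : φ.comp a = algebraMap k Ω := by
    refine RingHom.ext fun c => ?_
    show (Scheme.ΓSpecIso (CommRingCat.of Ω)).hom.hom (x.left.appTop.hom (Z.hom.appTop.hom
      ((Scheme.ΓSpecIso (CommRingCat.of k)).inv.hom c))) = _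
    rw [← RingHom.comp_apply x.left.appTop.hom, ← CommRingCat.hom_comp, ← Scheme.Hom.comp_appTop, Over.w x]
    show ((Scheme.ΓSpecIso (CommRingCat.of k)).inv ≫ (Spec.map (CommRingCat.ofHom (algebraMap k Ω))).appTop ≫
      (Scheme.ΓSpecIso (CommRingCat.of Ω)).hom).hom c = _
    rw [Scheme.ΓSpecIso_naturality, Iso.inv_hom_id_assoc]
    rfl
  letI : Algebra k Γ(Z.left, ⊤) := a.toAlgebra
  haveI : Module.Finite k Γ(Z.left, ⊤) := by
    have h : a.Finite := (Scheme.Hom.finite_appTop Z.hom).comp (RingHom.Finite.of_surjective _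
      (ConcreteCategory.bijective_of_isIso (Scheme.ΓSpecIso (CommRingCat.of k)).inv).2)
    exact RingHom.finite_algebraMap.1 h
  let φ' : Γ(Z.left, ⊤) →ₐ[k] Ω := { φ with commutes' := fun c => RingHom.congr_fun hcomp c }
  obtain ⟨n, v, hv⟩ := Submodule.fg_iff_exists_fin_generating_family.1 (Module.Finite.fg_top (R := k) (M := Γ(Z.left, ⊤)))
  let F := IntermediateField.adjoin k (Set.range fun j => φ' (v j))
  haveI : FiniteDimensional k F := IntermediateField.finiteDimensional_adjoin fun z _ => (Algebra.IsAlgebraic.isAlgebraic z).isIntegral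
  haveI : Finite F := Module.finite_of_finite k
  haveI : Normal k F := inferInstance
  obtain ⟨i, hi⟩ := (FiniteField.bijective_frobeniusAlgEquivOfAlgebraic_pow k F).2 (τ.restrictNormal F)
  have key : ∀ z ∈ F, τ z = (σ ^ (i : ℕ)) z := by
    intro z hz
    have h := τ.restrictNormal_commutes F ⟨z, hz⟩
    rw [← hi] at h
    have hp : ∀ (j : ℕ) (y : F), (((FiniteField.frobeniusAlgEquivOfAlgebraic k F ^ j) y : F) : Ω) = (σ ^ j) (y : Ω) := by
      intro j
      induction j with
      | zero => intro y; simp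
      | succ j ih =>
        intro y
        rw [pow_succ', pow_succ', AlgEquiv.mul_apply, AlgEquiv.mul_apply, ← ih y, hσ, Nat.card_eq_fintype_card]
        rfl
    exact h.symm.trans (hp i ⟨z, hz⟩)
  have hφ : ∀ s, τ (φ' s) = (σ ^ (i : ℕ)) (φ' s) := fun s => by
    have hs : s ∈ Submodule.span k (Set.range v) := hv ▸ Submodule.mem_top
    induction hs using Submodule.span_induction with
    | mem y hy =>
      obtain ⟨j, rfl⟩ := hy
      exact key _ (IntermediateField.subset_adjoin k _ ⟨j, rfl⟩)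
    | zero => rw [map_zero, map_zero, map_zero]
    | add p q _ _ hp hq => rw [map_add, map_add, map_add, hp, hq]
    | smul c p _ hp => rw [map_smul, map_smul, map_smul, hp]
  refine ⟨i, Over.OverMorphism.ext (ext_of_isAffine ?_)⟩
  refine CommRingCat.hom_ext (RingHom.ext fun s => ?_)
  apply (Scheme.ΓSpecIso (CommRingCat.of Ω)).commRingCatIsoToRingEquiv.injective
  have nat : ∀ ρ : Ω ≃ₐ[k] Ω, (Scheme.ΓSpecIso (CommRingCat.of Ω)).hom.hom
      ((SGA7.galAct ρ x).left.appTop.hom s) = ρ (φ' s) := fun ρ =>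
    congrArg (fun f => f.hom (x.left.appTop.hom s)) (Scheme.ΓSpecIso_naturality (CommRingCat.ofHom (ρ : Ω →+* Ω)))
  exact (nat τ).trans ((hφ s).trans (nat (σ ^ (i : ℕ))).symm)

variable {X : Over (Spec (CommRingCat.of k))} [GrpObj X] [IsCommMonObj X] [IsProper X.hom] [GeometricallyIntegral X.hom]

/-- On torsion points an automorphism acts like a power of Frobenius. -/
theorem exists_pow_galAct [Finite k] [IsAlgClosure k Ω] {σ : Ω ≃ₐ[k] Ω} (hσ : ∀ a : Ω, σ a = a ^ Nat.card k)
    (τ : Ω ≃ₐ[k] Ω) {n : ℕ} (hn : n ≠ 0) (x : SGA7.pt (K := k) Ω ⟶ X) (hx : x ^ n = 1) :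
    ∃ i : ℕ, SGA7.galAct τ x = SGA7.galAct (σ ^ i) x := by
  haveI : IsMonHom (𝟙 X ^ n) := AVDeg.isMonHom_id_pow (A := X) n
  haveI hfin : IsFinite (𝟙 X ^ n).left := AVDeg.isFinite_pow_id (A := X) hn
  obtain ⟨M, _, j, -, -, hsq, hmem⟩ := AgIsog.exists_kernel (𝟙 X ^ n)
  haveI : IsFinite M.hom := MorphismProperty.of_isPullback (P := @IsFinite) hsq hfin
  obtain ⟨y, rfl⟩ := (hmem _ x).2 (by rw [MonObj.comp_pow, Category.comp_id]; exact hx)
  obtain ⟨i, hi⟩ := exists_pow_galAct_finite hσ τ y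
  refine ⟨i, ?_⟩
  show SGA7.specAut τ ≫ y ≫ j = SGA7.specAut (σ ^ i) ≫ y ≫ j
  rw [← Category.assoc, ← Category.assoc]
  exact congrArg (· ≫ j) hi

omit [IsCommMonObj X] [IsProper X.hom] [GeometricallyIntegral X.hom] in
/-- The degree of a finite étale homomorphism is the number of geometric points of its kernel. -/
theorem finrank_eq_natCard_ker [IsAlgClosed Ω] {Y : Over (Spec (CommRingCat.of k))} [GrpObj Y] (q : X ⟶ Y)
    [IsFinite q.left] [Etale q.left] [PreconnectedSpace Y.left] (y : Y.left) :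
    q.left.finrank y = Nat.card {x : SGA7.pt (K := k) Ω ⟶ X // x ≫ q = 1} := by
  haveI : LocallyOfFinitePresentation q.left := inferInstance
  haveI : Flat q.left := inferInstance
  let ξ : Spec (CommRingCat.of Ω) ⟶ Y.left := (1 : SGA7.pt (K := k) Ω ⟶ Y).left
  let P : FEt.Cat Y.left := MorphismProperty.Over.mk ⊤ q.left ⟨‹_›, ‹_›⟩
  rw [q.left.isLocallyConstant_finrank.apply_eq_of_preconnectedSpace y (ξ (IsLocalRing.closedPoint Ω))]
  refine ((FEtRank.natCard_fiber ξ P).symm.trans (Nat.card_congr ?_)).trans rfl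
  exact
    { toFun := fun s => ⟨Over.homMk s.1 (by
          show s.1 ≫ X.hom = _
          have h : s.1 ≫ q.left = ξ := s.2
          rw [← Over.w q, ← Category.assoc, h]
          exact Over.w (1 : SGA7.pt (K := k) Ω ⟶ Y)), Over.OverMorphism.ext s.2⟩
      invFun := fun x => ⟨x.1.left, congrArg Over.Hom.left x.2⟩
      left_inv := fun _ => rfl
      right_inv := fun _ => rfl }

end Groth.Agent.AVTate
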