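import Groth.Agent.AVTate.Isog
import Groth.Agent.AVDeg.MinPolyTate
import Groth.Agent.AVDeg.MinpolyPow
import Groth.Agent.S16836
import Groth.Agent.S16837

/-!
# Consequences of Tate's theorem: ranks and the centre
-/

set_option autoImplicit false
set_option backward.isDefEq.respectTransparency false
set_option backward.isDefEq.respectTransparency.types false
set_option linter.style.haveILetI false
set_option linter.unusedSectionVars false
set_option synthInstance.maxHeartbeats 400000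
set_option maxHeartbeats 1000000

universe u

open CategoryTheory MonoidalCategory CartesianMonoidalCategory MonObj GrpObj AlgebraicGeometry
open UniqueFactorizationMonoid
open scoped TensorProduct

noncomputable section

namespace Groth.Agent.AVTate

/-- The algebra generated by a semisimple endomorphism is a semisimple ring. -/
theorem isSemisimpleRing_adjoin {K V : Type*} [Field K] [AddCommGroup V] [Module K V] [FiniteDimensional K V]
    {f : Module.End K V} (hf : f.IsSemisimple) :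
    IsSemisimpleRing (Algebra.adjoin K {f} : Subalgebra K (Module.End K V)) := by
  set m := minpoly K f
  have hm : m ≠ 0 := minpoly.ne_zero (IsIntegral.of_finite K f)
  let Q := Polynomial K ⧸ Ideal.span {m}
  haveI : IsReduced Q :=
    (Ideal.isRadical_iff_quotient_reduced _).mp (isRadical_iff_span_singleton.mp hf.minpoly_squarefree.isRadical)
  haveI : FiniteDimensional K Q := (AdjoinRoot.powerBasis hm).finite
  haveI : IsArtinianRing Q := .of_finite K Q
  haveI : IsSemisimpleRing Q := IsArtinianRing.isSemisimpleRing_of_isReduced Q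
  let e : Q ≃+* (Polynomial.aeval (R := K) f).range := ((Ideal.quotEquivOfEq (by
      ext F
      rw [Ideal.mem_span_singleton, RingHom.mem_ker]
      exact minpoly.dvd_iff)).trans
    (RingHom.quotientKerEquivRange ((Polynomial.aeval (R := K) f).toRingHom))).trans (RingEquiv.refl _)
  haveI := e.isSemisimpleRing
  exact (Subalgebra.equivOfEq _ _ (Algebra.adjoin_singleton_eq_range_aeval K f).symm).toRingEquiv.isSemisimpleRing

/-- Semisimplicity: irreducible factors of the characteristic polynomial divide annihilating polynomials. -/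
theorem dvd_of_mem_normalizedFactors_charpoly {K : Type*} {V : Type*} [Field K] [DecidableEq K] [AddCommGroup V]
    [Module K V] [FiniteDimensional K V] {f : Module.End K V} (hf : f.IsSemisimple) {s q : Polynomial K}
    (hs : s ∈ normalizedFactors f.charpoly) (hq : Polynomial.aeval f q = 0) : s ∣ q := by
  open LinAlg.SemisimpleHom in
  haveI : IsSemisimpleModule (Polynomial K) (Module.AEval' f) := hf
  obtain ⟨n, P, e, hP, hPi⟩ := LinAlg.SemisimpleHom.exists_decomp (K := K) (Module.AEval' f)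
  haveI : ∀ i, Module.Finite K (LinAlg.SemisimpleHom.Q (P i)) := fun i => LinAlg.SemisimpleHom.finite_Q (hP i)
  rw [← LinAlg.SemisimpleHom.Xop_AEval f, ← LinAlg.SemisimpleHom.charpoly_congr e,
    LinAlg.SemisimpleHom.charpoly_pi_Q n P hP, LinAlg.SemisimpleHom.normalizedFactors_prod P hP hPi] at hs
  obtain ⟨i, -, rfl⟩ := Multiset.mem_map.1 hs
  classical
  obtain ⟨v, hv⟩ := (Module.AEval'.of f).surjective (e.symm (Pi.single i 1))
  have h0 : q • Module.AEval'.of f v = 0 := by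
    rw [← Module.AEval.of_aeval_smul, hq, zero_smul, map_zero]
  rw [hv, ← map_smul, map_eq_zero_iff _ e.symm.injective] at h0
  have h1 : q • (1 : LinAlg.SemisimpleHom.Q (P i)) = 0 := by simpa using congrFun h0 i
  rw [LinAlg.SemisimpleHom.smul_Q, _root_.mul_one, Ideal.Quotient.eq_zero_iff_mem, Ideal.mem_span_singleton] at h1
  exact h1

/-- A central element stays central after base change. -/
theorem commute_one_tmul {R K E : Type*} [CommRing R] [CommRing K] [Algebra R K] [Ring E] [Algebra R E] (x : E)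
    (hx : ∀ y, y * x = x * y) (z : K ⊗[R] E) : (1 : K) ⊗ₜ[R] x * z = z * (1 : K) ⊗ₜ[R] x := by
  induction z using TensorProduct.induction_on with
  | zero => rw [mul_zero, zero_mul]
  | tmul a y => rw [Algebra.TensorProduct.tmul_mul_tmul, Algebra.TensorProduct.tmul_mul_tmul, _root_.one_mul,
      _root_.mul_one, hx y]
  | add a b ha hb => rw [mul_add, add_mul, ha, hb]

/-- Descent of membership in a monogenic algebra. -/
theorem mem_adjoin_of_one_tmul {R K E : Type*} [Field R] [CommRing K] [Algebra R K] [Ring E] [Algebra R E]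
    (hK : Function.Injective (algebraMap R K)) {a x : E}
    (h : (1 : K) ⊗ₜ[R] x ∈ Algebra.adjoin K ({(1 : K) ⊗ₜ[R] a} : Set (K ⊗[R] E))) : x ∈ Algebra.adjoin R {a} := by
  rw [Algebra.adjoin_singleton_eq_range_aeval] at h
  obtain ⟨F, hF : Polynomial.aeval _ F = _⟩ := h
  let Qs := Subalgebra.toSubmodule (Algebra.adjoin R {a})
  have hz : ∀ G : Polynomial K, (Qs.mkQ).baseChange K (Polynomial.aeval ((1 : K) ⊗ₜ[R] a) G) = 0 := by
    intro G
    induction G using Polynomial.induction_on' with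
    | add p q hp hq => rw [map_add, map_add, hp, hq, add_zero]
    | monomial i c =>
      rw [Polynomial.aeval_monomial, Algebra.TensorProduct.algebraMap_apply, Algebra.TensorProduct.tmul_pow,
        one_pow, Algebra.TensorProduct.tmul_mul_tmul, _root_.one_mul, LinearMap.baseChange_tmul,
        Submodule.mkQ_apply, (Submodule.Quotient.mk_eq_zero Qs).2
          (pow_mem (Algebra.subset_adjoin (R := R) (Set.mem_singleton _)) i), TensorProduct.tmul_zero]
  have hz' := hz F
  rw [hF, LinearMap.baseChange_tmul] at hz'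
  have h2 := Module.Flat.rTensor_preserves_injective_linearMap (M := E ⧸ Qs) (Algebra.linearMap R K) hK
  have h3 : (TensorProduct.lid R (E ⧸ Qs)).symm (Qs.mkQ x) = 0 :=
    h2 (by rw [map_zero]; simpa using hz')
  exact (Submodule.Quotient.mk_eq_zero Qs).1 ((map_eq_zero_iff _ (LinearEquiv.injective _)).1 h3)

variable {k : Type u} (Ω : Type u) [Field k] [Field Ω] [Algebra k Ω]
variable {l : ℕ} [Fact l.Prime]

section Two

variable {A B : Over (Spec (CommRingCat.of k))}
  [GrpObj A] [IsCommMonObj A] [IsProper A.hom] [GeometricallyIntegral A.hom]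
  [GrpObj B] [IsCommMonObj B] [IsProper B.hom] [GeometricallyIntegral B.hom]
  [Module.Free ℤ_[l] (AbDual.TateMod A l (SGA7.pt (K := k) Ω))] [Module.Finite ℤ_[l] (AbDual.TateMod A l (SGA7.pt (K := k) Ω))]
  [Module.Free ℤ_[l] (AbDual.TateMod B l (SGA7.pt (K := k) Ω))] [Module.Finite ℤ_[l] (AbDual.TateMod B l (SGA7.pt (K := k) Ω))]

/-- `rank Hom` is the dimension of the space of intertwiners of Frobenius. -/
theorem finrank_hom_eq_intertwiners [Finite k] [IsAlgClosure k Ω] (hl : (l : k) ≠ 0)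
    (πA : A ⟶ A) [IsMonHom πA] (hAb : πA.left.base = 𝟙 _) (hAle : ∀ U : A.left.Opens, U ≤ πA.left ⁻¹ᵁ U)
    (hAapp : ∀ (U : A.left.Opens) (s : Γ(A.left, U)), (πA.left.appLE U U (hAle U)).hom s = s ^ Nat.card k)
    (πB : B ⟶ B) [IsMonHom πB] (hBb : πB.left.base = 𝟙 _) (hBle : ∀ U : B.left.Opens, U ≤ πB.left ⁻¹ᵁ U)
    (hBapp : ∀ (U : B.left.Opens) (s : Γ(B.left, U)), (πB.left.appLE U U (hBle U)).hom s = s ^ Nat.card k) :
    Module.finrank ℤ (EndAV.Hom A B) = Module.finrank ℚ_[l] (LinearMap.ker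
      (LinearMap.lcomp ℚ_[l] (ℚ_[l] ⊗[ℤ_[l]] AbDual.TateMod B l (SGA7.pt (K := k) Ω))
          ((AbDual.tateMapₗ (l := l) (T := SGA7.pt (K := k) Ω) πA).baseChange ℚ_[l]) -
        LinearMap.llcomp ℚ_[l] (ℚ_[l] ⊗[ℤ_[l]] AbDual.TateMod A l (SGA7.pt (K := k) Ω)) _ _
          ((AbDual.tateMapₗ (l := l) (T := SGA7.pt (K := k) Ω) πB).baseChange ℚ_[l]) :
        ((ℚ_[l] ⊗[ℤ_[l]] AbDual.TateMod A l (SGA7.pt (K := k) Ω)) →ₗ[ℚ_[l]]
            (ℚ_[l] ⊗[ℤ_[l]] AbDual.TateMod B l (SGA7.pt (K := k) Ω))) →ₗ[ℚ_[l]] _)) := by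
  haveI : IsAlgClosed Ω := IsAlgClosure.isAlgClosed k
  haveI : Nonempty A.left := ⟨η[A].left (IsLocalRing.closedPoint k)⟩
  haveI : Nonempty B.left := ⟨η[B].left (IsLocalRing.closedPoint k)⟩
  obtain ⟨g, hg⟩ := AVDeg.exists_dim A
  obtain ⟨g', hg'⟩ := AVDeg.exists_dim B
  obtain ⟨hfree, hfin, -⟩ := AVDeg.hom_lattice (A := A) (B := B) hg hg'
  haveI := hfree
  haveI := hfin
  let H := Module.finBasis ℤ (EndAV.Hom A B)
  have hT := AVDeg.linearIndependent_tateMap' (l := l) (A := A) (B := B) Ω hl _ H.linearIndependent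
  let bc : (AbDual.TateMod A l (SGA7.pt (K := k) Ω) →ₗ[ℤ_[l]] AbDual.TateMod B l (SGA7.pt (K := k) Ω)) →ₗ[ℤ_[l]]
      ((ℚ_[l] ⊗[ℤ_[l]] AbDual.TateMod A l (SGA7.pt (K := k) Ω)) →ₗ[ℚ_[l]]
        (ℚ_[l] ⊗[ℤ_[l]] AbDual.TateMod B l (SGA7.pt (K := k) Ω))) := LinearMap.baseChangeHom ℤ_[l] ℚ_[l] _ _
  have hV := hT.map' bc (LinearMap.ker_eq_bot.2 (baseChange_injective (l := l)))
  rw [LinearIndependent.iff_fractionRing ℤ_[l] ℚ_[l]] at hV
  refine ((Fintype.card_fin _).symm.trans (finrank_span_eq_card hV).symm).trans (LinearEquiv.ofEq _ _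
    (le_antisymm (Submodule.span_le.2 ?_) fun φ hφ => ?_)).finrank_eq
  · rintro _ ⟨i, rfl⟩
    rw [SetLike.mem_coe, LinearMap.mem_ker, LinearMap.sub_apply, sub_eq_zero]
    refine LinearMap.ext fun x => ?_
    have hc := congrArg (LinearMap.baseChange ℚ_[l]) (AVQuot.tateMapₗ_congr (l := l) (T := SGA7.pt (K := k) Ω) _ _
      (AVDeg.frob_comm πA hAb hAle hAapp πB hBb hBle hBapp (H i).toHom))
    rw [AVQuot.tateMapₗ_comp', AVQuot.tateMapₗ_comp', LinearMap.baseChange_comp, LinearMap.baseChange_comp] at hc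
    exact LinearMap.congr_fun hc x
  · obtain ⟨r, hr, u, hu⟩ := exists_smul_eq_baseChange (R := ℤ_[l]) φ
    rw [LinearMap.mem_ker, LinearMap.sub_apply, sub_eq_zero] at hφ
    have hφ' : φ ∘ₗ (AbDual.tateMapₗ (l := l) (T := SGA7.pt (K := k) Ω) πA).baseChange ℚ_[l] =
        (AbDual.tateMapₗ (l := l) (T := SGA7.pt (K := k) Ω) πB).baseChange ℚ_[l] ∘ₗ φ := hφ
    have hcomm : u ∘ₗ AbDual.tateMapₗ (l := l) (T := SGA7.pt (K := k) Ω) πA =
        AbDual.tateMapₗ (l := l) (T := SGA7.pt (K := k) Ω) πB ∘ₗ u := by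
      refine baseChange_injective (l := l) ?_
      rw [LinearMap.baseChange_comp, LinearMap.baseChange_comp, ← hu, LinearMap.smul_comp, LinearMap.comp_smul, hφ']
    have hspan : u ∈ Submodule.span ℤ_[l]
        (Set.range fun i => EndAV.Hom.tateMap l (SGA7.pt (K := k) Ω) (H i)) := by
      refine Submodule.span_le.2 ?_ (mem_span_of_comm Ω hl πA hAb hAle hAapp πB hBb hBle hBapp u hcomm)
      rintro _ ⟨f, rfl⟩
      show EndAV.Hom.tateMap l (SGA7.pt (K := k) Ω) f ∈ _
      rw [← H.sum_repr f, map_sum]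
      exact Submodule.sum_mem _ fun i _ => by
        rw [map_zsmul]
        exact zsmul_mem (Submodule.subset_span (Set.mem_range_self i)) _
    refine (Submodule.smul_mem_iff _ ((map_ne_zero_iff _ (IsFractionRing.injective ℤ_[l] ℚ_[l])).2 hr)).1 ?_
    rw [hu]
    obtain ⟨c, rfl⟩ := (Submodule.mem_span_range_iff_exists_fun _).1 hspan
    show bc _ ∈ _
    rw [map_sum]
    refine Submodule.sum_mem _ fun i _ => ?_
    rw [map_smul, ← algebraMap_smul ℚ_[l] (c i)]
    exact Submodule.smul_mem _ _ (Submodule.subset_span (Set.mem_range_self i))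

/-- `rank Hom` from the characteristic polynomials over `ℚ_l`. -/
theorem finrank_hom_sum [Finite k] [IsAlgClosure k Ω] [DecidableEq ℚ_[l]] (hl : (l : k) ≠ 0)
    (πA : A ⟶ A) [IsMonHom πA] (hAb : πA.left.base = 𝟙 _) (hAle : ∀ U : A.left.Opens, U ≤ πA.left ⁻¹ᵁ U)
    (hAapp : ∀ (U : A.left.Opens) (s : Γ(A.left, U)), (πA.left.appLE U U (hAle U)).hom s = s ^ Nat.card k)
    (πB : B ⟶ B) [IsMonHom πB] (hBb : πB.left.base = 𝟙 _) (hBle : ∀ U : B.left.Opens, U ≤ πB.left ⁻¹ᵁ U)
    (hBapp : ∀ (U : B.left.Opens) (s : Γ(B.left, U)), (πB.left.appLE U U (hBle U)).hom s = s ^ Nat.card k) :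
    Module.finrank ℤ (EndAV.Hom A B) =
      ∑ P ∈ (normalizedFactors ((AbDual.tateMapₗ (l := l) (T := SGA7.pt (K := k) Ω) πA).baseChange ℚ_[l]).charpoly).toFinset,
        (normalizedFactors ((AbDual.tateMapₗ (l := l) (T := SGA7.pt (K := k) Ω) πA).baseChange ℚ_[l]).charpoly).count P *
        (normalizedFactors ((AbDual.tateMapₗ (l := l) (T := SGA7.pt (K := k) Ω) πB).baseChange ℚ_[l]).charpoly).count P *
          P.natDegree := by
  rw [finrank_hom_eq_intertwiners Ω hl πA hAb hAle hAapp πB hBb hBle hBapp]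
  convert Groth.Agent.S16837.result ℚ_[l] _ _ _ _
    (AVDeg.isSemisimple_tate (φ := EndAV.End.of πA) (l := l) Ω (AVDeg.frob_semisimple πA hAb hAle hAapp).2.2)
    (AVDeg.isSemisimple_tate (φ := EndAV.End.of πB) (l := l) Ω (AVDeg.frob_semisimple πB hBb hBle hBapp).2.2)
    <;> first | rfl | exact (EndAV.End.toHom_of _).symm

/-- `rank Hom` from the integral characteristic polynomials. -/
theorem finrank_hom_sum_rat [Finite k] [IsAlgClosure k Ω] (hl : (l : k) ≠ 0)
    (πA : A ⟶ A) [IsMonHom πA] (hAb : πA.left.base = 𝟙 _) (hAle : ∀ U : A.left.Opens, U ≤ πA.left ⁻¹ᵁ U)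
    (hAapp : ∀ (U : A.left.Opens) (s : Γ(A.left, U)), (πA.left.appLE U U (hAle U)).hom s = s ^ Nat.card k)
    (πB : B ⟶ B) [IsMonHom πB] (hBb : πB.left.base = 𝟙 _) (hBle : ∀ U : B.left.Opens, U ≤ πB.left ⁻¹ᵁ U)
    (hBapp : ∀ (U : B.left.Opens) (s : Γ(B.left, U)), (πB.left.appLE U U (hBle U)).hom s = s ^ Nat.card k)
    {PA : Polynomial ℤ} (hPA : (AbDual.tateMapₗ (l := l) (T := SGA7.pt (K := k) Ω) πA).charpoly = PA.map (Int.castRingHom ℤ_[l]))
    {PB : Polynomial ℤ} (hPB : (AbDual.tateMapₗ (l := l) (T := SGA7.pt (K := k) Ω) πB).charpoly = PB.map (Int.castRingHom ℤ_[l])) :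
    Module.finrank ℤ (EndAV.Hom A B) =
      ∑ P ∈ (normalizedFactors (PA.map (Int.castRingHom ℚ))).toFinset,
        (normalizedFactors (PA.map (Int.castRingHom ℚ))).count P *
          (normalizedFactors (PB.map (Int.castRingHom ℚ))).count P * P.natDegree := by
  classical
  have hne : ∀ {M : Type u} [AddCommGroup M] [Module ℤ_[l] M] [Module.Free ℤ_[l] M] [Module.Finite ℤ_[l] M]
      (f : M →ₗ[ℤ_[l]] M) (P : Polynomial ℤ), f.charpoly = P.map (Int.castRingHom ℤ_[l]) →
      (P.map (Int.castRingHom ℚ) ≠ 0 ∧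
        (f.baseChange ℚ_[l]).charpoly = (P.map (Int.castRingHom ℚ)).map (algebraMap ℚ ℚ_[l])) := by
    intro M _ _ _ _ f P h
    refine ⟨(Polynomial.map_ne_zero_iff (Int.castRingHom ℚ).injective_int).2 fun h0 => ?_, ?_⟩
    · rw [h0, Polynomial.map_zero] at h
      exact (LinearMap.charpoly_monic f).ne_zero h
    · rw [LinearMap.charpoly_baseChange, h, Polynomial.map_map, Polynomial.map_map]
      exact congrArg (fun r => P.map r) (RingHom.ext_int _ _)
  obtain ⟨hA0, hA⟩ := hne _ PA hPA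
  obtain ⟨hB0, hB⟩ := hne _ PB hPB
  rw [finrank_hom_sum Ω hl πA hAb hAle hAapp πB hBb hBle hBapp, hA, hB]
  convert Groth.Agent.S16836.result ℚ ℚ_[l] _ _ hA0 hB0 <;> with_unfolding_all rfl

end Two

section One

variable {X : Over (Spec (CommRingCat.of k))}
  [GrpObj X] [IsCommMonObj X] [IsProper X.hom] [GeometricallyIntegral X.hom]

theorem finrank_end0 : Module.finrank ℚ (EndAV.End0 X) = Module.finrank ℤ (EndAV.End X) := by
  haveI : Nonempty X.left := ⟨η[X].left (IsLocalRing.closedPoint k)⟩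
  obtain ⟨g, hg⟩ := AVDeg.exists_dim X
  obtain ⟨hfree, hfin, -⟩ := AVDeg.hom_lattice (A := X) (B := X) hg hg
  haveI : Module.Free ℤ (EndAV.End X) := hfree
  exact Module.finrank_baseChange

variable [IsAlgClosed Ω]
  [Module.Free ℤ_[l] (AbDual.TateMod X l (SGA7.pt (K := k) Ω))] [Module.Finite ℤ_[l] (AbDual.TateMod X l (SGA7.pt (K := k) Ω))]

theorem ratRepL_injective (hl : (l : k) ≠ 0) : Function.Injective (AVQuot.ratRepL Ω l X) := by
  haveI := AVDeg.finite_end0 (A := X)
  have h1 : Module.finrank ℚ_[l] (LinearMap.range (AVQuot.ratRepL Ω l X).toLinearMap) =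
      Module.finrank ℚ_[l] (ℚ_[l] ⊗[ℚ] EndAV.End0 X) := by
    rw [Module.finrank_baseChange, finrank_end0]
    exact finrank_end_image (X := X) Ω hl
  have h2 := LinearMap.finrank_range_add_finrank_ker (AVQuot.ratRepL Ω l X).toLinearMap
  have h3 : Module.finrank ℚ_[l] (LinearMap.ker (AVQuot.ratRepL Ω l X).toLinearMap) = 0 := by omega
  exact LinearMap.ker_eq_bot.1 (Submodule.finrank_eq_zero.1 h3)

theorem ratRepL_one_tmul (x : EndAV.End0 X) :
    AVQuot.ratRepL Ω l X ((1 : ℚ_[l]) ⊗ₜ[ℚ] x) = AVDeg.ratRep (l := l) Ω x := by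
  rw [AVQuot.ratRepL, Algebra.TensorProduct.lift_tmul, map_one, _root_.one_mul]

theorem ratRep_injective (hl : (l : k) ≠ 0) : Function.Injective (AVDeg.ratRep (A := X) (l := l) Ω) := fun a b h => by
  rw [← ratRepL_one_tmul, ← ratRepL_one_tmul] at h
  exact Algebra.TensorProduct.includeRight_injective (RingHom.injective (algebraMap ℚ ℚ_[l])) (ratRepL_injective Ω hl h)

end One

/-- **The centre of `End⁰` is generated by Frobenius.** -/
theorem center_end0 {X : Over (Spec (CommRingCat.of k))}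
    [GrpObj X] [IsCommMonObj X] [IsProper X.hom] [GeometricallyIntegral X.hom] [Finite k]
    (πA : X ⟶ X) [IsMonHom πA] (hb : πA.left.base = 𝟙 _) (hle : ∀ U : X.left.Opens, U ≤ πA.left ⁻¹ᵁ U)
    (happ : ∀ (U : X.left.Opens) (s : Γ(X.left, U)), (πA.left.appLE U U (hle U)).hom s = s ^ Nat.card k) :
    Subalgebra.center ℚ (EndAV.End0 X) = EndAV.QAdj (EndAV.End.of πA) := by
  refine le_antisymm (fun x hx => ?_) (Algebra.adjoin_le ?_)
  swap
  · rintro _ rfl
    exact Subalgebra.mem_center_iff.2 fun y => ((AVDeg.commute_toEnd0 (AVDeg.commute_frob πA hb hle happ) y).symm).eq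
  obtain ⟨l, hlk, hlp⟩ := Nat.exists_infinite_primes (max 2 (ringChar k + 1))
  haveI := Fact.mk hlp
  have hl : (l : k) ≠ 0 := fun h => by
    have := (Nat.prime_dvd_prime_iff_eq (CharP.char_is_prime k (ringChar k)) hlp).1 ((ringChar.spec k l).1 h)
    omega
  let Ω' := AlgebraicClosure k
  obtain ⟨hf, hr⟩ := tate_finite_free (X := X) Ω' (l := l) hl
  haveI := hf
  haveI := hr
  let P : Module.End ℚ_[l] (ℚ_[l] ⊗[ℤ_[l]] AbDual.TateMod X l (SGA7.pt (K := k) Ω')) :=
    (AbDual.tateMapₗ (l := l) (T := SGA7.pt (K := k) Ω') πA).baseChange ℚ_[l]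
  have hP : AVQuot.ratRepL Ω' l X ((1 : ℚ_[l]) ⊗ₜ[ℚ] EndAV.toEnd0 (EndAV.End.of πA)) = P :=
    (ratRepL_one_tmul Ω' _).trans (AVDeg.ratRep_toEnd0 Ω' _)
  haveI := isSemisimpleRing_adjoin (f := P)
    (AVDeg.isSemisimple_tate (φ := EndAV.End.of πA) (l := l) Ω' (AVDeg.frob_semisimple πA hb hle happ).2.2)
  have hmem : AVQuot.ratRepL Ω' l X ((1 : ℚ_[l]) ⊗ₜ[ℚ] x) ∈ Algebra.adjoin ℚ_[l] {P} := by
    refine AVQuot.mem_of_commute_commutant _ _ fun c hc => ?_
    have hcc : c ∈ (AVQuot.ratRepL Ω' l X).range := by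
      rw [← Subalgebra.mem_toSubmodule, ← commutant_mem_span Ω' hl πA hb hle happ, mem_commutant_iff]
      exact (hc P (Algebra.subset_adjoin rfl)).symm
    obtain ⟨c', rfl⟩ := hcc
    show AVQuot.ratRepL Ω' l X _ * AVQuot.ratRepL Ω' l X c' = AVQuot.ratRepL Ω' l X c' * AVQuot.ratRepL Ω' l X _
    rw [← map_mul, ← map_mul]
    exact congrArg _ (commute_one_tmul x (fun y => Subalgebra.mem_center_iff.1 hx y) c')
  rw [← hP, ← Set.image_singleton, ← AlgHom.map_adjoin] at hmem
  obtain ⟨y, hy, hyx⟩ := hmem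
  have hy' : (y : ℚ_[l] ⊗[ℚ] EndAV.End0 X) = (1 : ℚ_[l]) ⊗ₜ[ℚ] x := ratRepL_injective Ω' hl hyx
  exact mem_adjoin_of_one_tmul (RingHom.injective (algebraMap ℚ ℚ_[l])) (hy' ▸ hy)

end Groth.Agent.AVTate
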